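import Mathlib

/-!
# Overgroups of semilinear groups over an extension of prime degree: elements and basic moves
-/

set_option autoImplicit false
set_option linter.unusedSectionVars false

namespace CfsgLib.Classical.FieldExtMax

open Module

variable {F K V : Type*} [Field F] [Field K] [Algebra F K] [AddCommGroup V] [Module F V] [Module K V]
  [IsScalarTower F K V] [FiniteDimensional F K] [FiniteDimensional K V]

/-- The map `1 + A` belongs to `M`. -/
def Has (M : Subgroup (V ≃ₗ[F] V)) (A : V →ₗ[F] V) : Prop := ∃ e ∈ M, ∀ x, e x = x + A x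

/-- The line over `K` through `a`, as a space over `F`. -/
abbrev line (F K : Type*) {V : Type*} [Field F] [Field K] [Algebra F K] [AddCommGroup V] [Module F V]
    [Module K V] [IsScalarTower F K V] (a : V) : Submodule F V :=
  (K ∙ a).restrictScalars F

theorem mem_line {a x : V} : x ∈ line F K a ↔ ∃ k : K, k • a = x := Submodule.mem_span_singleton

theorem smul_mem_line (a : V) (k : K) : k • a ∈ line F K a := mem_line.2 ⟨k, rfl⟩

theorem self_mem_line (a : V) : a ∈ line F K a := Submodule.mem_span_singleton_self a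

theorem line_le_iff {a : V} {S : Submodule F V} : line F K a ≤ S ↔ ∀ k : K, k • a ∈ S :=
  ⟨fun h k => h (smul_mem_line a k), fun h x hx => by obtain ⟨k, rfl⟩ := mem_line.1 hx; exact h k⟩

theorem finrank_line {a : V} (ha : a ≠ 0) : finrank F (line F K a) = finrank F K := by
  have h1 : finrank F (line F K a) = finrank F (K ∙ a : Submodule K V) := rfl
  rw [h1, ← (LinearEquiv.toSpanNonzeroSingleton K V a ha).restrictScalars F |>.finrank_eq]

theorem line_eq_of_mem {a x : V} (hx : x ∈ line F K a) (h0 : x ≠ 0) : line F K x = line F K a := by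
  obtain ⟨k, rfl⟩ := mem_line.1 hx
  have hk : k ≠ 0 := by rintro rfl; simp at h0
  unfold line
  rw [Submodule.span_singleton_smul_eq (isUnit_iff_ne_zero.2 hk)]

variable {M : Subgroup (V ≃ₗ[F] V)}

theorem Has.congr {A B : V →ₗ[F] V} (h : Has M A) (e : ∀ x, A x = B x) : Has M B := by
  rwa [← LinearMap.ext e]

theorem Has.zero : Has M (0 : V →ₗ[F] V) := ⟨1, M.one_mem, fun x => by simp⟩

theorem Has.neg {A : V →ₗ[F] V} (h : Has M A) (h0 : ∀ x, A (A x) = 0) : Has M (-A) := by
  obtain ⟨e, he, hex⟩ := h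
  refine ⟨e⁻¹, inv_mem he, fun x => e.injective ?_⟩
  rw [hex (x + (-A) x)]
  simpa [h0] using (e.apply_symm_apply x)

theorem Has.add {A B : V →ₗ[F] V} (hA : Has M A) (hB : Has M B) (h : ∀ x, A (B x) = 0) :
    Has M (A + B) := by
  obtain ⟨a, ha, hax⟩ := hA
  obtain ⟨b, hb, hbx⟩ := hB
  refine ⟨a * b, mul_mem ha hb, fun x => ?_⟩
  rw [LinearEquiv.mul_apply, hbx, hax, map_add, h, LinearMap.add_apply]
  abel

theorem Has.conj {A : V →ₗ[F] V} (hA : Has M A) {g : V ≃ₗ[F] V} (hg : g ∈ M) :
    Has M (g.toLinearMap ∘ₗ A ∘ₗ g.symm.toLinearMap) := by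
  obtain ⟨a, ha, hax⟩ := hA
  refine ⟨g * a * g⁻¹, mul_mem (mul_mem hg ha) (inv_mem hg), fun x => ?_⟩
  rw [LinearEquiv.mul_apply, LinearEquiv.mul_apply, hax, map_add]
  show g (g.symm x) + _ = _
  rw [g.apply_symm_apply]
  rfl

/-- The commutator of two square-zero maps with one vanishing product. -/
theorem Has.comm {A B : V →ₗ[F] V} (hA : Has M A) (hB : Has M B) (hA2 : ∀ x, A (A x) = 0)
    (hB2 : ∀ x, B (B x) = 0) (hBA : ∀ x, B (A x) = 0) : Has M (A ∘ₗ B) := by
  obtain ⟨a, ha, hax⟩ := hA
  obtain ⟨b, hb, hbx⟩ := hB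
  have hai : ∀ x, a⁻¹ x = x - A x := fun x => a.injective (by
    rw [hax (x - A x)]
    simpa [hA2] using (a.apply_symm_apply x))
  have hbi : ∀ x, b⁻¹ x = x - B x := fun x => b.injective (by
    rw [hbx (x - B x)]
    simpa [hB2] using (b.apply_symm_apply x))
  refine ⟨a * b * a⁻¹ * b⁻¹, mul_mem (mul_mem (mul_mem ha hb) (inv_mem ha)) (inv_mem hb), fun x => ?_⟩
  rw [LinearEquiv.mul_apply, LinearEquiv.mul_apply, LinearEquiv.mul_apply, hbi, hai, hbx, hax]
  simp only [map_sub, map_add, hA2, hB2, hBA, LinearMap.comp_apply, map_zero]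
  abel

/-- The hypothesis: `M` contains every `K`-linear automorphism whose determinant has norm one. -/
def ContainsSL (K : Type*) [Field K] [Algebra F K] [Module K V] [IsScalarTower F K V]
    (M : Subgroup (V ≃ₗ[F] V)) : Prop :=
  ∀ e : V ≃ₗ[K] V, Algebra.norm F (LinearMap.det e.toLinearMap) = 1 → e.restrictScalars F ∈ M

variable (hM : ContainsSL K M)
include hM

/-- Root elements over `K`. -/
theorem has_root {ψ : V →ₗ[K] K} {a : V} (h : ψ a = 0) :
    Has M ((ψ.smulRight a).restrictScalars F) := by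
  refine ⟨(LinearEquiv.transvection h).restrictScalars F, hM _ ?_, fun x => rfl⟩
  rw [← LinearEquiv.coe_det, LinearEquiv.transvection.det_eq_one, Units.val_one, map_one]

/-- A dilation along `a` composed with one along `c`. -/
theorem exists_dilation {χ ψ : V →ₗ[K] K} {a c : V} (ha : χ a = 1) (hc : ψ c = 1) (hac : ψ a = 0)
    (hca : χ c = 0) {k l : K} (hkl : Algebra.norm F (k * l) = 1) :
    ∃ e : V ≃ₗ[F] V, e ∈ M ∧ ∀ x, e x = x + ((k - 1) * χ x) • a + ((l - 1) * ψ x) • c := by
  have hk : k ≠ 0 ∧ l ≠ 0 := mul_ne_zero_iff.1 fun h0 => by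
    rw [h0, Algebra.norm_zero] at hkl; exact zero_ne_one hkl
  set d : V →ₗ[K] V := LinearMap.transvection ((k - 1) • χ) a ∘ₗ LinearMap.transvection ((l - 1) • ψ) c with hd
  have hdet : LinearMap.det d = k * l := by
    rw [hd, LinearMap.det_comp, LinearMap.transvection.det, LinearMap.transvection.det]
    simp [ha, hc]
  have hu : IsUnit (LinearMap.det d) := isUnit_iff_ne_zero.2 (by rw [hdet]; exact mul_ne_zero hk.1 hk.2)
  set e := LinearEquiv.ofBijective d ((Module.End.isUnit_iff d).1 ((LinearMap.isUnit_iff_isUnit_det d).2 hu)) with he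
  refine ⟨e.restrictScalars F, hM e ?_, fun x => ?_⟩
  · show Algebra.norm F (LinearMap.det d) = 1
    rw [hdet, hkl]
  · show d x = _
    simp only [hd, LinearMap.comp_apply, LinearMap.transvection.apply, LinearMap.smul_apply, smul_eq_mul, map_add,
      map_smul, hca, mul_zero, zero_smul, add_zero]

end CfsgLib.Classical.FieldExtMax
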