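import Cfsg.Agent.Lib.Classical.FieldExtMax.Spread

/-!
# An image of a line meeting a line in a hyperplane
-/

set_option autoImplicit false
set_option linter.unusedSectionVars false

namespace CfsgLib.Classical.FieldExtMax

open Module

variable {F K V : Type*} [Field F] [Field K] [Algebra F K] [AddCommGroup V] [Module F V] [Module K V]
  [IsScalarTower F K V] [FiniteDimensional F K] [FiniteDimensional K V] {M : Subgroup (V ≃ₗ[F] V)}

/-- If a scalar outside `F` stabilises a subspace, all of `K` does, the degree being prime. -/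
theorem smul_mem_of_stable (hr : (finrank F K).Prime) {D : Submodule F V} {k₀ : K}
    (hk₀ : ∀ c : F, algebraMap F K c ≠ k₀) (h : ∀ x ∈ D, k₀ • x ∈ D) (k : K) {x : V} (hx : x ∈ D) :
    k • x ∈ D := by
  haveI := Subalgebra.isSimpleOrder_of_finrank_prime F K hr
  let S : Subalgebra F K :=
    { carrier := {k : K | ∀ x ∈ D, k • x ∈ D}
      mul_mem' := fun {a b} ha hb x hx => by rw [mul_smul]; exact ha _ (hb x hx)
      add_mem' := fun {a b} ha hb x hx => by rw [add_smul]; exact D.add_mem (ha x hx) (hb x hx)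
      algebraMap_mem' := fun c x hx => by rw [algebraMap_smul]; exact D.smul_mem c hx }
  rcases eq_bot_or_eq_top S with hS | hS
  · have h1 : k₀ ∈ S := h
    rw [hS, Algebra.mem_bot] at h1
    obtain ⟨c, hc⟩ := h1
    exact absurd hc (hk₀ c)
  · exact (hS ▸ Algebra.mem_top : k ∈ S) x hx

/-- `g` maps the line of `a` onto a subspace meeting the line of `g a` in a hyperplane of both. -/
structure Config (M : Subgroup (V ≃ₗ[F] V)) (K : Type*) [Field K] [Algebra F K] [Module K V]
    [IsScalarTower F K V] where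
  g : V ≃ₗ[F] V
  mem : g ∈ M
  a : V
  a_ne : a ≠ 0
  y : V
  y₂ : V
  y_mem : y ∈ line F K (g a)
  y_not : y ∉ (line F K a).map g.toLinearMap
  y₂_mem : y₂ ∈ (line F K a).map g.toLinearMap
  y₂_not : y₂ ∉ line F K (g a)
  decomp : ∀ x ∈ line F K (g a), ∃ c : F, x - c • y ∈ (line F K a).map g.toLinearMap
  decomp₂ : ∀ x ∈ (line F K a).map g.toLinearMap, ∃ c : F, x - c • y₂ ∈ line F K (g a)

theorem exists_of_hyperplane {P D : Submodule F V} [FiniteDimensional F P] (hDP : D ≤ P) {y : V}
    (hy : y ∈ P) (hyD : y ∉ D) (hd : finrank F P ≤ finrank F D + 1) (x : V) (hx : x ∈ P) :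
    ∃ c : F, x - c • y ∈ D := by
  haveI : FiniteDimensional F D := Submodule.finiteDimensional_of_le hDP
  have hle : D ⊔ F ∙ y ≤ P := sup_le hDP ((Submodule.span_singleton_le_iff_mem _ _).2 hy)
  haveI : FiniteDimensional F ↥(D ⊔ F ∙ y) := Submodule.finiteDimensional_of_le hle
  have hlt : finrank F D < finrank F ↥(D ⊔ F ∙ y) := Submodule.finrank_lt_finrank_of_lt
    (lt_of_le_of_ne le_sup_left fun e => hyD (by
      rw [e]; exact Submodule.mem_sup_right (Submodule.mem_span_singleton_self y)))
  rw [← Submodule.eq_of_le_of_finrank_le hle (by omega)] at hx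
  obtain ⟨d, hd', e, he, rfl⟩ := Submodule.mem_sup.1 hx
  obtain ⟨c, rfl⟩ := Submodule.mem_span_singleton.1 he
  exact ⟨c, by rwa [add_sub_cancel_right]⟩

variable (hM : ContainsSL K M) (hr : (finrank F K).Prime)
include hM hr

theorem exists_config {g : V ≃ₗ[F] V} (hg : g ∈ M) {a : V} (hne : ∃ k : K, g (k • a) ∉ line F K (g a)) :
    Nonempty (Config M K) := by
  haveI : FiniteDimensional F V := FiniteDimensional.trans F K V
  suffices H : ∀ n : ℕ, ∀ g : V ≃ₗ[F] V, g ∈ M → ∀ a : V, (∃ k : K, g (k • a) ∉ line F K (g a)) →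
      finrank F K ≤ finrank F ↥((line F K a).map g.toLinearMap ⊓ line F K (g a)) + n →
      Nonempty (Config M K) from
    H (finrank F K) g hg a hne (Nat.le_add_left _ _)
  clear hne hg a g
  intro n
  induction n with
  | zero =>
    intro g hg a hne hd
    exfalso
    obtain ⟨k, hk⟩ := hne
    have ha : a ≠ 0 := by rintro rfl; simp at hk
    have h1 : finrank F ↥((line F K a).map g.toLinearMap) = finrank F K :=
      (LinearEquiv.finrank_map_eq g _).trans (finrank_line ha)
    have h2 := Submodule.eq_of_le_of_finrank_le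
      (inf_le_left (a := (line F K a).map g.toLinearMap) (b := line F K (g a))) (by omega)
    exact hk ((h2.ge.trans inf_le_right) ⟨k • a, smul_mem_line a k, rfl⟩)
  | succ n ih =>
    intro g hg a hne hd
    obtain ⟨k, hk⟩ := hne
    have ha : a ≠ 0 := by rintro rfl; simp at hk
    have hga : g a ≠ 0 := fun h => ha (g.injective (h.trans (map_zero g).symm))
    set P := (line F K a).map g.toLinearMap with hP
    set L := line F K (g a) with hL
    set D := P ⊓ L with hD
    have hzP : g a ∈ P := ⟨a, self_mem_line a, rfl⟩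
    have hzD : g a ∈ D := ⟨hzP, self_mem_line _⟩
    set y₂ := g (k • a) with hy₂
    have hy₂P : y₂ ∈ P := ⟨k • a, smul_mem_line a k, rfl⟩
    have hPfin : finrank F P = finrank F K := (LinearEquiv.finrank_map_eq g _).trans (finrank_line ha)
    have hLfin : finrank F L = finrank F K := finrank_line hga
    by_cases hbig : finrank F K ≤ finrank F D + 1
    · obtain ⟨y, hyL, hyP⟩ : ∃ y ∈ L, y ∉ P := by
        refine SetLike.not_le_iff_exists.1 fun hle => hk ?_
        have h2 := Submodule.eq_of_le_of_finrank_le hle (by omega)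
        show y₂ ∈ L
        rw [h2]; exact hy₂P
      refine ⟨⟨g, hg, a, ha, y, y₂, hyL, hyP, hy₂P, hk, fun x hx => ?_, fun x hx => ?_⟩⟩
      · obtain ⟨c, hc⟩ := exists_of_hyperplane (D := D) inf_le_right hyL (fun h => hyP h.1) (by omega) x hx
        exact ⟨c, hc.1⟩
      · obtain ⟨c, hc⟩ := exists_of_hyperplane (D := D) inf_le_left hy₂P (fun h => hk h.2) (by omega) x hx
        exact ⟨c, hc.2⟩
    · obtain ⟨y₃, hy₃P, hy₃⟩ : ∃ y₃ ∈ P, y₃ ∉ D ⊔ F ∙ y₂ := by
        refine SetLike.not_le_iff_exists.1 fun hle => hbig ?_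
        have h1 := Submodule.finrank_mono hle
        have h2 := Submodule.finrank_add_le_finrank_add_finrank D (F ∙ y₂)
        have h3 : finrank F (F ∙ y₂ : Submodule F V) ≤ 1 := by
          rcases eq_or_ne y₂ 0 with h0 | h0
          · rw [h0, Submodule.span_singleton_eq_bot.2 rfl, finrank_bot]; omega
          · exact (finrank_span_singleton h0).le
        omega
      obtain ⟨ψ, hψz, hψ₂, hψ₃⟩ : ∃ ψ : V →ₗ[K] K, ψ (g a) = 0 ∧ ψ y₂ = 1 ∧
          ∀ c : F, algebraMap F K c ≠ ψ y₃ := by
        obtain ⟨ψ₀, h0, h1⟩ := exists_functional (z := g a) (y := y₂) hk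
        by_cases hspan : y₃ ∈ Submodule.span K ({g a, y₂} : Set V)
        · refine ⟨ψ₀, h0, h1, fun c hc => hy₃ ?_⟩
          obtain ⟨p, q, hpq⟩ := Submodule.mem_span_pair.1 hspan
          have hq : ψ₀ y₃ = q := by rw [← hpq]; simp [h0, h1]
          have hd' : y₃ - c • y₂ ∈ D := by
            refine ⟨P.sub_mem hy₃P (P.smul_mem c hy₂P), mem_line.2 ⟨p, ?_⟩⟩
            rw [← hpq, ← algebraMap_smul K c y₂, hc, hq, add_sub_cancel_right]
          exact Submodule.mem_sup.2 ⟨_, hd', c • y₂, Submodule.smul_mem _ _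
            (Submodule.mem_span_singleton_self y₂), sub_add_cancel _ _⟩
        · obtain ⟨ψ₁, hne1, hbot⟩ := Submodule.exists_dual_map_eq_bot_of_notMem hspan inferInstance
          have hz1 : ψ₁ (g a) = 0 := by
            have := Submodule.mem_map_of_mem (f := ψ₁) (Submodule.subset_span (Set.mem_insert (g a) {y₂}))
            rwa [hbot, Submodule.mem_bot] at this
          have hy1 : ψ₁ y₂ = 0 := by
            have := Submodule.mem_map_of_mem (f := ψ₁)
              (Submodule.subset_span (Set.mem_insert_of_mem (g a) (Set.mem_singleton y₂)))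
            rwa [hbot, Submodule.mem_bot] at this
          obtain ⟨k', hk'⟩ : ∃ k' : K, k' ∉ (⊥ : Subalgebra F K) := by
            by_contra hall
            push Not at hall
            have h1 : (⊥ : Subalgebra F K) = ⊤ := eq_top_iff.2 fun x _ => hall x
            have h2 : finrank F K = 1 := Subalgebra.bot_eq_top_iff_finrank_eq_one.1 h1
            exact hr.one_lt.ne' h2
          refine ⟨ψ₀ + ((k' - ψ₀ y₃) * (ψ₁ y₃)⁻¹) • ψ₁, by simp [h0, hz1], by simp [h1, hy1],
            fun c hc => hk' ?_⟩
          simp [hne1, mul_assoc] at hc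
          exact Algebra.mem_bot.2 ⟨c, hc⟩
      obtain ⟨d, hdD, hdnot⟩ : ∃ d ∈ D, ψ y₃ • d ∉ D := by
        by_contra hall
        push Not at hall
        have hle : L ≤ D := line_le_iff.2 fun l => smul_mem_of_stable hr hψ₃ hall l hzD
        have h1 := Submodule.finrank_mono hle
        omega
      have hψL : ∀ x ∈ L, ψ x = 0 := by
        intro x hx
        obtain ⟨l, rfl⟩ := mem_line.1 hx
        simp [hψz]
      obtain ⟨t, ht, htx⟩ := has_root (F := F) hM (hψL d hdD.2)
      have hta : t (g a) = g a := by rw [htx]; simp [hψz]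
      refine ih (g⁻¹ * t * g) (mul_mem (mul_mem (inv_mem hg) ht) hg) a ?_ ?_
      · obtain ⟨w, hw, hw'⟩ := id hy₃P
        obtain ⟨l, rfl⟩ := mem_line.1 hw
        refine ⟨l, fun hmem => hdnot ⟨?_, mem_line.2 ?_⟩⟩
        · have hmem' : t y₃ ∈ P := by
            have e : g.symm (t (g a)) = a := by rw [hta, g.symm_apply_apply]
            rw [LinearEquiv.mul_apply, LinearEquiv.mul_apply] at hmem
            change g.symm (t (g (l • a))) ∈ line F K ((g⁻¹ * t * g) a) at hmem
            rw [show (g⁻¹ * t * g) a = a from e] at hmem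
            exact ⟨_, hmem, by simp only [LinearEquiv.coe_coe, g.apply_symm_apply]; rw [← hw']; rfl⟩
          rw [htx] at hmem'
          simpa using P.sub_mem hmem' hy₃P
        · obtain ⟨l', hl'⟩ := mem_line.1 hdD.2
          exact ⟨ψ y₃ * l', by rw [← hl', smul_smul]⟩
      · have hfix : ∀ x ∈ D, t x = x := fun x hx => by rw [htx]; simp [hψL x hx.2]
        have e : (g⁻¹ * t * g) a = a := by
          show g.symm (t (g a)) = a
          rw [hta, g.symm_apply_apply]
        have key : ∀ x, x ∈ P → (∃ x' ∈ P, t x' = x) →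
            g.symm x ∈ (line F K a).map (g⁻¹ * t * g).toLinearMap ⊓ line F K ((g⁻¹ * t * g) a) := by
          rintro x ⟨w, hw, rfl⟩ ⟨x', ⟨w', hw', rfl⟩, hx'⟩
          refine ⟨⟨w', hw', ?_⟩, ?_⟩
          · show g.symm (t (g w')) = g.symm (g w)
            exact congrArg g.symm hx'
          · rw [e]
            show g.symm (g w) ∈ line F K a
            rwa [g.symm_apply_apply]
        have hty : t y₂ = y₂ + d := by rw [htx]; simp [hψ₂]
        have hle : (D ⊔ F ∙ (y₂ + d)).map g.symm.toLinearMap ≤
            (line F K a).map (g⁻¹ * t * g).toLinearMap ⊓ line F K ((g⁻¹ * t * g) a) := by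
          rw [Submodule.map_sup, sup_le_iff]
          refine ⟨?_, ?_⟩
          · rintro _ ⟨x, hx, rfl⟩
            exact key x hx.1 ⟨x, hx.1, hfix x hx⟩
          · rw [Submodule.map_span, Set.image_singleton, Submodule.span_singleton_le_iff_mem]
            exact key _ (P.add_mem hy₂P hdD.1) ⟨y₂, hy₂P, hty⟩
        have h1 := Submodule.finrank_mono hle
        rw [LinearEquiv.finrank_map_eq] at h1
        have h2 : finrank F D < finrank F ↥(D ⊔ F ∙ (y₂ + d)) := Submodule.finrank_lt_finrank_of_lt
          (lt_of_le_of_ne le_sup_left fun e' => hk (by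
            have hm' : y₂ + d ∈ D := by
              rw [e']; exact Submodule.mem_sup_right (Submodule.mem_span_singleton_self _)
            simpa using L.sub_mem hm'.2 hdD.2))
        omega

end CfsgLib.Classical.FieldExtMax
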