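import Cfsg.Agent.Lib.Classical.FieldExtMax.Plane

/-!
# A map moving a line gives all transvections
-/

set_option autoImplicit false
set_option linter.unusedSectionVars false

namespace CfsgLib.Classical.FieldExtMax

open Module

variable {F K V : Type*} [Field F] [Field K] [Algebra F K] [AddCommGroup V] [Module F V]
  [Module K V] [IsScalarTower F K V] [FiniteDimensional F K] [FiniteDimensional K V]
  {M : Subgroup (V ≃ₗ[F] V)}

/-- The functional supplied by a configuration when the dimension exceeds two. -/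
theorem exists_phi_space (hM : ContainsSL K M) (hm : 3 ≤ finrank K V) (C : Config M K) :
    ∃ φ ∈ Phi M K (C.g C.a), φ ≠ 0 := by
  set g := C.g with hg
  set a := C.a with ha
  set z := g a with hz
  obtain ⟨ψ₁, hψz, hψ₂⟩ := exists_functional (K := K) (z := z) (y := C.y₂) C.y₂_not
  obtain ⟨ψ₀, hψ₀, hψ₀a, hψ₀y⟩ := exists_functional₂ (K := K) hm a (g.symm C.y)
  obtain ⟨f₀, hf₀⟩ := exists_f₀ (F := F) (K := K)
  have hψL : ∀ x ∈ line F K z, ψ₁ x = 0 := by
    intro x hx; obtain ⟨l, rfl⟩ := mem_line.1 hx; simp [hψz]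
  let B : V →ₗ[F] V := g.toLinearMap ∘ₗ (ψ₀.smulRight a).restrictScalars F ∘ₗ g.symm.toLinearMap
  have hBH : Has M B := (has_root (F := F) hM (ψ := ψ₀) (a := a) hψ₀a).conj C.mem
  have hBapply : ∀ x, B x = g (ψ₀ (g.symm x) • a) := fun x => rfl
  have hBP : ∀ x, B x ∈ (line F K a).map g.toLinearMap := fun x =>
    ⟨_, smul_mem_line a (ψ₀ (g.symm x)), rfl⟩
  have hBkerP : ∀ x ∈ (line F K a).map g.toLinearMap, B x = 0 := by
    rintro _ ⟨w, hw, rfl⟩
    obtain ⟨l, rfl⟩ := mem_line.1 hw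
    simp [hBapply, hψ₀a]
  have hBy : B C.y = 0 := by simp [hBapply, hψ₀y]
  have hBL : ∀ x ∈ line F K z, B x = 0 := fun x hx => by
    obtain ⟨c, hc⟩ := C.decomp x hx
    have h := hBkerP _ hc
    rwa [map_sub, map_smul, hBy, smul_zero, sub_zero] at h
  have hψP : ∀ x ∈ (line F K a).map g.toLinearMap, ∃ c : F, ψ₁ x = algebraMap F K c := fun x hx => by
    obtain ⟨c, hc⟩ := C.decomp₂ x hx
    refine ⟨c, ?_⟩
    have h := hψL _ hc
    rw [map_sub, LinearMap.map_smul_of_tower, hψ₂, sub_eq_zero] at h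
    rw [h, Algebra.algebraMap_eq_smul_one]
  let φ : V →ₗ[F] F := f₀ ∘ₗ ψ₁.restrictScalars F ∘ₗ B
  have hφ : ∀ x, ψ₁ (B x) = algebraMap F K (φ x) := fun x => by
    obtain ⟨c, hc⟩ := hψP _ (hBP x)
    show ψ₁ (B x) = algebraMap F K (f₀ (ψ₁ (B x)))
    rw [hc, Algebra.algebraMap_eq_smul_one c, map_smul, hf₀, smul_eq_mul, mul_one,
      Algebra.algebraMap_eq_smul_one]
  refine ⟨φ, ⟨fun w hw => by simp [φ, hBL w hw], fun w hw => ?_⟩, fun h0 => ?_⟩
  · have hA : Has M ((ψ₁.smulRight w).restrictScalars F) := has_root hM (hψL w hw)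
    refine (hA.comm hBH (fun x => by simp [hψL w hw]) (fun x => hBkerP _ (hBP x)) fun x => ?_).congr fun x => ?_
    · obtain ⟨l, rfl⟩ := mem_line.1 hw
      simp only [LinearMap.coe_restrictScalars, LinearMap.smulRight_apply, smul_smul]
      exact hBL _ (smul_mem_line z _)
    · simp [hφ, algebraMap_smul]
  · obtain ⟨κw, hκw, hκy⟩ := C.y₂_mem
    obtain ⟨κ, rfl⟩ := mem_line.1 hκw
    obtain ⟨v, hv⟩ := DFunLike.ne_iff.1 hψ₀
    rw [LinearMap.zero_apply] at hv
    have h1 : B (g ((κ / ψ₀ v) • v)) = C.y₂ := by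
      rw [hBapply, g.symm_apply_apply, LinearMap.map_smul ψ₀, smul_eq_mul, div_mul_cancel₀ κ hv]
      exact hκy
    have h2 := hφ (g ((κ / ψ₀ v) • v))
    rw [h1, hψ₂, h0, LinearMap.zero_apply, map_zero] at h2
    exact one_ne_zero h2

/-- A map moving a line, together with `SL` over `K`, gives every transvection over `F`. -/
theorem has_all [Finite F] (hM : ContainsSL K M) (hr : (finrank F K).Prime) (hm : 2 ≤ finrank K V)
    {g : V ≃ₗ[F] V} (hg : g ∈ M) {a : V} (hne : ∃ k : K, g (k • a) ∉ line F K (g a))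
    (v : V) (f : V →ₗ[F] F) (hf : f v = 0) : Has M (f.smulRight v) := by
  obtain ⟨C⟩ := exists_config hM hr hg hne
  obtain ⟨φ, hφ, hφ0⟩ : ∃ φ ∈ Phi M K (C.g C.a), φ ≠ 0 := by
    rcases Nat.lt_or_ge 2 (finrank K V) with h | h
    · exact exists_phi_space hM h C
    · exact exists_phi_plane hM hr (le_antisymm h hm) C
  exact has_all_transvections hM hm (fun h => C.a_ne (C.g.injective (h.trans (map_zero C.g).symm)))
    hφ hφ0 v f hf

/-- A map preserving every line is semilinear. -/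
theorem semilinear_of_lines (hm : 2 ≤ finrank K V) (g : V ≃ₗ[F] V)
    (h : ∀ (a : V) (k : K), g (k • a) ∈ line F K (g a)) (k : K) :
    ∃ k' : K, ∀ x, g (k • x) = k' • g x := by
  haveI : FiniteDimensional F V := FiniteDimensional.trans F K V
  have hind : ∀ x y : V, y ∉ line F K x → g y ∉ line F K (g x) := by
    intro x y hy hmem
    have hx : g x ≠ 0 → (line F K x).map g.toLinearMap = line F K (g x) := fun h0 => by
      refine Submodule.eq_of_le_of_finrank_le ?_ ?_
      · rintro _ ⟨w, hw, rfl⟩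
        obtain ⟨l, rfl⟩ := mem_line.1 hw
        exact h x l
      · rw [LinearEquiv.finrank_map_eq, finrank_line h0,
          finrank_line (a := x) fun e => h0 (by rw [e, map_zero])]
    rcases eq_or_ne (g x) 0 with h0 | h0
    · rw [h0] at hmem
      obtain ⟨l, hl⟩ := mem_line.1 hmem
      rw [smul_zero] at hl
      exact hy (by rw [g.injective (hl.symm.trans (map_zero g).symm)]; exact Submodule.zero_mem _)
    · rw [← hx h0] at hmem
      obtain ⟨w, hw, hwy⟩ := hmem
      exact hy (g.injective hwy ▸ hw)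
  have hpair : ∀ x y : V, x ≠ 0 → y ∉ line F K x → ∀ p q : K,
      g (k • x) = p • g x → g (k • y) = q • g y → p = q := by
    intro x y hx hy p q hp hq
    obtain ⟨s, hs⟩ := mem_line.1 (h (x + y) k)
    rw [smul_add, map_add, map_add, hp, hq, smul_add] at hs
    have e : (s - q) • g y = (p - s) • g x := by
      rw [sub_smul, sub_smul, sub_eq_sub_iff_add_eq_add, add_comm, hs]
    have hsq : s = q := by
      by_contra hne
      refine hind x y hy (mem_line.2 ⟨(s - q)⁻¹ * (p - s), ?_⟩)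
      rw [mul_smul, ← e, inv_smul_smul₀ (sub_ne_zero.2 hne)]
    rw [hsq, sub_self, zero_smul] at e
    have hgx : g x ≠ 0 := fun h0 => hx (g.injective (h0.trans (map_zero g).symm))
    exact sub_eq_zero.1 ((smul_eq_zero.1 e.symm).resolve_right hgx)
  obtain ⟨x₀, hx₀⟩ : ∃ x₀ : V, x₀ ≠ 0 := by
    haveI : Nontrivial V := nontrivial_of_finrank_pos (R := K) (by omega)
    exact exists_ne 0
  obtain ⟨y₀, hy₀⟩ : ∃ y₀ : V, y₀ ∉ line F K x₀ := by
    by_contra hall
    push Not at hall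
    have h1 : (K ∙ x₀ : Submodule K V) = ⊤ := eq_top_iff.2 fun x _ => hall x
    have h2 := finrank_span_singleton (K := K) hx₀
    rw [h1, finrank_top] at h2
    omega
  obtain ⟨p, hp⟩ := mem_line.1 (h x₀ k)
  refine ⟨p, fun x => ?_⟩
  rcases eq_or_ne x 0 with rfl | hx
  · simp
  obtain ⟨q, hq⟩ := mem_line.1 (h x k)
  rw [← hq]
  by_cases hdep : x ∈ line F K x₀
  · obtain ⟨t, ht⟩ := mem_line.1 (h y₀ k)
    have h1 := hpair x₀ y₀ hx₀ hy₀ p t hp.symm ht.symm
    have h2 := hpair x y₀ hx (by rwa [line_eq_of_mem hdep hx]) q t hq.symm ht.symm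
    rw [h1, h2]
  · rw [hpair x₀ x hx₀ hdep p q hp.symm hq.symm]

end CfsgLib.Classical.FieldExtMax
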