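import Cfsg.Prelude.Def_GeometricClasses
import Cfsg.Agent.Lib.Classical.GSpMax
import Cfsg.Agent.Lib.Classical.FieldExtMax.Main

/-!
# Normalisers of extension fields of prime degree are maximal
-/

set_option autoImplicit false
set_option linter.unusedSectionVars false
set_option backward.isDefEq.respectTransparency false

namespace CfsgLib.Classical.FieldExtMax

open Module Matrix CfsgLib.Classical
open scoped MatrixGroups

variable {F : Type*} [Field F] [Finite F] {n r : ℕ} {K : Subalgebra F (Matrix (Fin n) (Fin n) F)}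

theorem det_linToGL (e : (Fin n → F) ≃ₗ[F] (Fin n → F)) :
    (GeneralLinearGroup.det (linToGL e) : F) = LinearMap.det e.toLinearMap := by
  show Matrix.det (LinearMap.toMatrix' e.toLinearMap) = _
  rw [LinearMap.det_toMatrix']

theorem mem_normalizer_iff {ι : Type} [Fintype ι] [DecidableEq ι] {K : Subalgebra F (Matrix ι ι F)} {g : GL ι F} :
    g ∈ Cfsg.Geo.subalgebraNormalizer K ↔
      ∀ k : K, ∃ k' : K, ∀ x, (g : Matrix ι ι F) *ᵥ (k.1 *ᵥ x) =
        k'.1 *ᵥ ((g : Matrix ι ι F) *ᵥ x) := by
  set G := (g : Matrix ι ι F) with hG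
  set G' := ((g⁻¹ : GL ι F) : Matrix ι ι F) with hG'
  have h1 : G' * G = 1 := Units.inv_mul g
  have h2 : G * G' = 1 := Units.mul_inv g
  constructor
  · intro hg k
    refine ⟨⟨_, (hg k.1).1 k.2⟩, fun x => ?_⟩
    show G *ᵥ (k.1 *ᵥ x) = (G * k.1 * G') *ᵥ (G *ᵥ x)
    rw [mulVec_mulVec, mulVec_mulVec, mul_assoc (G * k.1), h1, mul_one]
  · intro h
    have hfwd : ∀ k : K, G * k.1 * G' ∈ K := fun k => by
      obtain ⟨k', hk'⟩ := h k
      have e : G * k.1 = k'.1 * G := Matrix.ext_iff_mulVec.2 fun x => by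
        rw [← mulVec_mulVec, ← mulVec_mulVec, hk']
      rw [e, mul_assoc, h2, mul_one]
      exact k'.2
    haveI : Finite K := Finite.of_injective _ Subtype.val_injective
    have hsurj : Function.Surjective (fun k : K => (⟨G * k.1 * G', hfwd k⟩ : K)) :=
      Finite.surjective_of_injective fun a b hab => Subtype.ext (by
        have hab' : G * a.1 * G' = G * b.1 * G' := congrArg Subtype.val hab
        have := congrArg (fun m => G' * m * G) hab'
        simpa [← mul_assoc, h1, mul_assoc _ G' G] using this)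
    intro k
    refine ⟨fun hk => hfwd ⟨k, hk⟩, fun hk => ?_⟩
    obtain ⟨k₀, hk₀⟩ := hsurj ⟨_, hk⟩
    have hk₁ : G * k₀.1 * G' = G * k * G' := congrArg Subtype.val hk₀
    have := congrArg (fun m => G' * m * G) hk₁
    simp only [← mul_assoc, h1, one_mul] at this
    rw [mul_assoc, h1, mul_one, mul_assoc, h1, mul_one] at this
    exact this ▸ k₀.2

/-- The main theorem: both normalisers are maximal. -/
theorem maximal_of_degree_lt (hr : r.Prime) (hlt : r < n) (hK : Cfsg.Geo.IsFieldSubalgebra r K) :
    IsCoatom (Cfsg.Geo.subalgebraNormalizer K) ∧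
      Cfsg.Geo.IsMaximalIn (Cfsg.Geo.specialLinear (Fin n) F)
        (Cfsg.Geo.subalgebraNormalizer K ⊓ Cfsg.Geo.specialLinear (Fin n) F) := by
  classical
  haveI : Nonempty (Fin n) := ⟨⟨0, by omega⟩⟩
  have hfield : IsField K := ⟨⟨0, 1, zero_ne_one⟩, fun a b => Subtype.ext (hK.comm _ a.2 _ b.2),
    fun {a} ha => by
      obtain ⟨y, hy, h⟩ := hK.inv a.1 a.2 fun h => ha (Subtype.ext h)
      exact ⟨⟨y, hy⟩, Subtype.ext h⟩⟩
  letI : Field K := hfield.toField
  letI : Module K (Fin n → F) := Module.compHom (Fin n → F)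
    ((Matrix.toLinAlgEquiv' : Matrix (Fin n) (Fin n) F ≃ₐ[F] _).toAlgHom.comp K.val).toRingHom
  have hsmul : ∀ (k : K) (x : Fin n → F), k • x = k.1 *ᵥ x := fun k x =>
    Matrix.toLinAlgEquiv'_apply k.1 x
  haveI : IsScalarTower F K (Fin n → F) := ⟨fun c k x => by
    rw [hsmul, hsmul]
    exact Matrix.smul_mulVec c k.1 x⟩
  haveI : FiniteDimensional F K := Module.finite_of_finrank_pos (by
    have : Module.finrank F K = r := hK.finrank_eq
    rw [this]; exact hr.pos)
  haveI : FiniteDimensional K (Fin n → F) := Module.Finite.of_restrictScalars_finite F K (Fin n → F)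
  have hfin : finrank F K = r := hK.finrank_eq
  have hm : 2 ≤ finrank K (Fin n → F) := by
    have h := finrank_mul_finrank F K (Fin n → F)
    rw [hfin, finrank_fin_fun] at h
    by_contra hc
    have : finrank K (Fin n → F) ≤ 1 := by omega
    have := Nat.mul_le_mul_left r this
    omega
  haveI : Finite K := Finite.of_injective _ Subtype.val_injective
  set N := Cfsg.Geo.subalgebraNormalizer K
  set S := Cfsg.Geo.specialLinear (Fin n) F
  have hlin : ∀ e : (Fin n → F) ≃ₗ[K] (Fin n → F), linToGL (e.restrictScalars F) ∈ N := fun e =>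
    mem_normalizer_iff.2 fun k => ⟨k, fun x => by
      rw [linToGL_mulVec, linToGL_mulVec, ← hsmul, ← hsmul]
      exact e.map_smul k x⟩
  have hdet : ∀ e : (Fin n → F) ≃ₗ[K] (Fin n → F),
      (GeneralLinearGroup.det (linToGL (e.restrictScalars F)) : F) =
        Algebra.norm F (LinearMap.det e.toLinearMap) := fun e => by
    rw [det_linToGL, ← LinearMap.det_restrictScalars]
    rfl
  -- the normaliser does not contain the special linear group
  have hnot : ¬ S ≤ N := by
    intro hle
    obtain ⟨a, ha⟩ : ∃ a : Fin n → F, a ≠ 0 := exists_ne 0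
    obtain ⟨k, hk⟩ : ∃ k : K, k ∉ (⊥ : Subalgebra F K) := by
      by_contra hall
      push Not at hall
      have h1 : (⊥ : Subalgebra F K) = ⊤ := eq_top_iff.2 fun x _ => hall x
      have h2 := Subalgebra.bot_eq_top_iff_finrank_eq_one.1 h1
      rw [hfin] at h2
      exact hr.one_lt.ne' h2
    obtain ⟨b, hb⟩ : ∃ b, b ∉ line F K a := by
      by_contra hall
      push Not at hall
      have h1 : (K ∙ a : Submodule K (Fin n → F)) = ⊤ := eq_top_iff.2 fun x _ => hall x
      have h2 := finrank_span_singleton (K := K) ha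
      rw [h1, finrank_top] at h2
      omega
    have hka : k • a ∉ Submodule.span F ({a, b} : Set (Fin n → F)) := fun hmem => by
      obtain ⟨c, d, hcd⟩ := Submodule.mem_span_pair.1 hmem
      rcases eq_or_ne d 0 with rfl | hd
      · rw [zero_smul, add_zero, ← algebraMap_smul K c a] at hcd
        exact hk (smul_left_injective K ha hcd ▸ Subalgebra.algebraMap_mem _ c)
      · refine hb ?_
        have : d • b ∈ line F K a := by
          rw [show d • b = k • a - c • a by rw [← hcd]; abel]
          exact sub_mem (smul_mem_line a k) (Submodule.smul_mem _ c (self_mem_line a))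
        simpa [smul_smul, inv_mul_cancel₀ hd] using Submodule.smul_mem _ d⁻¹ this
    obtain ⟨φ, hφk, hφab⟩ := Submodule.exists_dual_map_eq_bot_of_notMem hka inferInstance
    have hφ : φ a = 0 ∧ φ b = 0 := by
      constructor <;>
        [have h := Submodule.mem_map_of_mem (f := φ) (Submodule.subset_span (Set.mem_insert a {b}));
         have h := Submodule.mem_map_of_mem (f := φ)
           (Submodule.subset_span (Set.mem_insert_of_mem a (Set.mem_singleton b)))] <;>
        rwa [hφab, Submodule.mem_bot] at h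
    have h0 : funVec φ ⬝ᵥ b = 0 := by rw [funVec_dot, hφ.2]
    obtain ⟨k', hk'⟩ := mem_normalizer_iff.1 (hle (trGL_mem_sl b (funVec φ) h0)) k
    have h := hk' a
    rw [← hsmul, trGL_mulVec, trGL_mulVec, funVec_dot, funVec_dot, hφ.1, zero_smul, add_zero, ← hsmul] at h
    have : φ (k • a) • b ∈ line F K a := by
      rw [show φ (k • a) • b = k' • a - k • a by rw [← h]; abel, ← sub_smul]
      exact smul_mem_line a _
    exact hb (by simpa [smul_smul, inv_mul_cancel₀ hφk] using Submodule.smul_mem _ (φ (k • a))⁻¹ this)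
  -- a subgroup properly above contains the special linear group
  have hbig : ∀ M : Subgroup (GL (Fin n) F), N ⊓ S ≤ M → ¬ M ≤ N → S ≤ M := by
    intro M hNM hMN
    obtain ⟨g, hgM, hgN⟩ := SetLike.not_le_iff_exists.1 hMN
    let M' : Subgroup ((Fin n → F) ≃ₗ[F] (Fin n → F)) := M.comap linToGL
    have hM' : ContainsSL K M' := fun e he => hNM ⟨hlin e, MonoidHom.mem_ker.2 (Units.ext (by
      rw [hdet, he, Units.val_one]))⟩
    let e : (Fin n → F) ≃ₗ[F] (Fin n → F) := LinearEquiv.ofLinear
      (Matrix.toLin' (g : Matrix (Fin n) (Fin n) F)) (Matrix.toLin' ((g⁻¹ : GL (Fin n) F) : Matrix (Fin n) (Fin n) F))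
      (by rw [← Matrix.toLin'_mul, Units.mul_inv, Matrix.toLin'_one])
      (by rw [← Matrix.toLin'_mul, Units.inv_mul, Matrix.toLin'_one])
    have hex : ∀ x, e x = (g : Matrix (Fin n) (Fin n) F) *ᵥ x := fun x => Matrix.toLin'_apply _ _
    have heg : linToGL e = g := Units.ext (Matrix.ext_iff_mulVec.2 fun x => by rw [linToGL_mulVec, hex])
    have he : e ∈ M' := Subgroup.mem_comap.2 (heg ▸ hgM)
    obtain ⟨a, hne⟩ : ∃ a, ∃ k : K, e (k • a) ∉ line F K (e a) := by
      by_contra hall
      push Not at hall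
      refine hgN (mem_normalizer_iff.2 fun k => ?_)
      obtain ⟨k', hk'⟩ := semilinear_of_lines hm e hall k
      exact ⟨k', fun x => by rw [← hex, ← hex, ← hsmul, ← hsmul]; exact hk' x⟩
    refine sl_le_of_forall_trGL M fun v f h => ?_
    let φ : (Fin n → F) →ₗ[F] F :=
      { toFun := fun x => f ⬝ᵥ x
        map_add' := dotProduct_add f
        map_smul' := fun c x => dotProduct_smul c f x }
    obtain ⟨t, ht, htx⟩ := has_all hM' (hfin ▸ hr) hm he hne v φ h
    have htr : linToGL t = trGL v f h := Units.ext (Matrix.ext_iff_mulVec.2 fun x => by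
      rw [linToGL_mulVec, trGL_mulVec, htx]; rfl)
    exact htr ▸ ht
  refine ⟨⟨fun h => hnot (h ▸ le_top), fun M hM => ?_⟩, ?_, fun M h1 h2 => ?_⟩
  · have hS : S ≤ M := hbig M (inf_le_left.trans hM.le) hM.not_ge
    refine eq_top_iff.2 fun h _ => ?_
    obtain ⟨k, hk⟩ := FiniteField.unitsMap_norm_surjective F K (GeneralLinearGroup.det h)
    have hk' : Algebra.norm F ((k : K)) = (GeneralLinearGroup.det h : F) := congrArg Units.val hk
    obtain ⟨a, ha⟩ : ∃ a : Fin n → F, a ≠ 0 := exists_ne 0
    obtain ⟨χ, hχ⟩ := Module.Projective.exists_dual_ne_zero K ha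
    let T : (Fin n → F) →ₗ[K] (Fin n → F) :=
      LinearMap.transvection ((((k : K) - 1) * (χ a)⁻¹) • χ) a
    have hT : LinearMap.det T = (k : K) := by
      rw [LinearMap.transvection.det]
      simp [mul_assoc, hχ]
    have hu : IsUnit (LinearMap.det T) := by rw [hT]; exact k.isUnit
    let e := LinearEquiv.ofBijective T
      ((Module.End.isUnit_iff T).1 ((LinearMap.isUnit_iff_isUnit_det T).2 hu))
    have he : GeneralLinearGroup.det (linToGL (e.restrictScalars F)) = GeneralLinearGroup.det h :=
      Units.ext (by rw [hdet, ← hk', ← hT]; rfl)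
    have hx : h * (linToGL (e.restrictScalars F))⁻¹ ∈ S :=
      MonoidHom.mem_ker.2 (by rw [map_mul, map_inv, he, mul_inv_cancel])
    have := M.mul_mem (hS hx) (hM.le (hlin e))
    rwa [inv_mul_cancel_right] at this
  · exact lt_of_le_not_ge inf_le_right fun h => hnot (h.trans inf_le_left)
  · by_cases hMN : M ≤ N
    · exact Or.inl (le_antisymm (le_inf hMN h2) h1)
    · exact Or.inr (le_antisymm h2 (hbig M h1 hMN))

end CfsgLib.Classical.FieldExtMax
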