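import Cfsg.Agent.Lib.Classical.FieldExtMax.Lines

/-!
# The two-dimensional case
-/

set_option autoImplicit false
set_option linter.unusedSectionVars false

namespace CfsgLib.Classical.FieldExtMax

open Module

variable {F K V : Type*} [Field F] [Finite F] [Field K] [Algebra F K] [AddCommGroup V] [Module F V]
  [Module K V] [IsScalarTower F K V] [FiniteDimensional F K] [FiniteDimensional K V]
  {M : Subgroup (V ≃ₗ[F] V)}

omit [AddCommGroup V] [Module F V] [Module K V] [IsScalarTower F K V] [FiniteDimensional K V] in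
/-- Elements of norm one generate a finite extension field as a ring. -/
theorem mem_of_norm_one_subring (hr : 2 ≤ finrank F K) (S : Subring K)
    (h : ∀ x : K, Algebra.norm F x = 1 → x ∈ S) (k : K) : k ∈ S := by
  haveI : Finite K := Module.finite_of_finite F
  cases nonempty_fintype K
  let S' : Subfield K :=
    { S with
      inv_mem' := fun x hx => by
        rcases eq_or_ne x 0 with rfl | h0
        · simp
        · have h1 : x⁻¹ = x ^ (Fintype.card K - 2) := by
            refine inv_eq_of_mul_eq_one_right ?_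
            rw [← pow_succ', show Fintype.card K - 2 + 1 = Fintype.card K - 1 by
              have := Fintype.one_lt_card (α := K); omega, FiniteField.pow_card_sub_one_eq_one x h0]
          rw [h1]; exact S.pow_mem hx _ }
  have hmem : ∀ x : K, x ∈ S' ↔ x ∈ S := fun x => Iff.rfl
  by_contra hk
  set N := (Units.map (Algebra.norm F (S := K))).ker with hN
  have hsurj : Function.Surjective (Units.map (Algebra.norm F (S := K))) :=
    FiniteField.unitsMap_norm_surjective F K
  have hcard : Nat.card N * (Nat.card F - 1) = Nat.card F ^ finrank F K - 1 := by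
    rw [← Nat.card_units F, ← Nat.card_congr (Equiv.ofBijective _
      ⟨Function.injective_id, Function.surjective_id⟩ : Fˣ ≃ Fˣ),
      ← Module.natCard_eq_pow_finrank, ← Nat.card_units K,
      Subgroup.card_eq_card_quotient_mul_card_subgroup N,
      Nat.card_congr (QuotientGroup.quotientKerEquivOfSurjective _ hsurj).toEquiv, mul_comm]
  have hq : 2 ≤ Nat.card F := Finite.one_lt_card
  have hN1 : Nat.card F ^ (finrank F K - 1) ≤ Nat.card N := by
    by_contra hlt
    push Not at hlt
    have h1 : (Nat.card N + 1) * (Nat.card F - 1) ≤ Nat.card F ^ (finrank F K - 1) * (Nat.card F - 1) :=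
      Nat.mul_le_mul_right _ hlt
    have h2 : Nat.card F ^ (finrank F K - 1) * (Nat.card F - 1) + Nat.card F ^ (finrank F K - 1) =
        Nat.card F ^ finrank F K := by
      rw [← Nat.mul_succ, show (Nat.card F - 1).succ = Nat.card F by omega, ← pow_succ,
        show finrank F K - 1 + 1 = finrank F K by omega]
    have h3 : 2 ≤ Nat.card F ^ (finrank F K - 1) :=
      hq.trans (Nat.le_self_pow (by omega) _)
    have h4 : 1 ≤ Nat.card F ^ finrank F K := Nat.one_le_pow _ _ (by omega)
    rw [add_mul, one_mul, hcard] at h1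
    omega
  have hS : Nat.card N + 1 ≤ Nat.card S' := by
    let i : Option N → S' := fun o => o.elim 0 fun x => ⟨((x.1 : Kˣ) : K), (hmem _).2 (h _ (by
      have := MonoidHom.mem_ker.1 x.2
      rw [Units.ext_iff] at this
      simpa using this))⟩
    have hi : Function.Injective i := by
      rintro (_ | x) (_ | x') he
      · rfl
      · exact absurd (congrArg Subtype.val he).symm (Units.ne_zero _)
      · exact absurd (congrArg Subtype.val he) (Units.ne_zero _)
      · exact congrArg some (Subtype.ext (Units.ext (congrArg Subtype.val he :)))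
    calc Nat.card N + 1 = Nat.card (Option N) := (Finite.card_option).symm
      _ ≤ _ := Nat.card_le_card_of_injective i hi
  have hd : 2 ≤ finrank S' K := by
    by_contra hlt
    have h1 : finrank S' K = 1 := by
      have : 0 < finrank S' K := Module.finrank_pos
      omega
    have h2 : Nat.card K = Nat.card S' := by
      rw [Module.natCard_eq_pow_finrank (K := S') (V := K), h1, pow_one]
    exact hk ((hmem k).1 (by
      obtain ⟨x, hx⟩ := ((Nat.bijective_iff_injective_and_card (fun x : S' => (x : K))).2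
        ⟨Subtype.val_injective, h2.symm⟩).2 k
      exact hx ▸ x.2))
  have h1 : Nat.card S' ^ 2 ≤ Nat.card F ^ finrank F K := by
    rw [← Module.natCard_eq_pow_finrank, Module.natCard_eq_pow_finrank (K := S') (V := K)]
    exact Nat.pow_le_pow_right Finite.card_pos hd
  have h2 : (Nat.card F ^ (finrank F K - 1) + 1) ^ 2 ≤ Nat.card S' ^ 2 := Nat.pow_le_pow_left (by omega) 2
  have h3 : Nat.card F ^ finrank F K ≤ (Nat.card F ^ (finrank F K - 1)) ^ 2 := by
    rw [← pow_mul]; exact Nat.pow_le_pow_right (by omega) (by omega)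
  have h4 : (Nat.card F ^ (finrank F K - 1)) ^ 2 < (Nat.card F ^ (finrank F K - 1) + 1) ^ 2 :=
    Nat.pow_lt_pow_left (Nat.lt_succ_self _) two_ne_zero
  omega

/-- The maps `θ` for which `x ↦ θ (ψ x) • z` is in `M`. -/
def rmap (ψ : V →ₗ[K] K) (z : V) (θ : K →ₗ[F] K) : V →ₗ[F] V :=
  (LinearMap.toSpanSingleton K V z).restrictScalars F ∘ₗ θ ∘ₗ ψ.restrictScalars F

theorem rmap_apply (ψ : V →ₗ[K] K) (z : V) (θ : K →ₗ[F] K) (x : V) : rmap ψ z θ x = θ (ψ x) • z := rfl

variable (hM : ContainsSL K M) (hr : (finrank F K).Prime) (hm : finrank K V = 2)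
include hM hr hm

omit hM in
theorem mem_line_of_functional {ψ : V →ₗ[K] K} {z y : V} (hz : z ≠ 0) (h0 : ψ z = 0) (h1 : ψ y = 1)
    {x : V} (hx : ψ x = 0) : x ∈ line F K z := by
  have hle : (K ∙ z : Submodule K V) ≤ LinearMap.ker ψ :=
    (Submodule.span_singleton_le_iff_mem _ _).2 h0
  have hrk := LinearMap.finrank_range_add_finrank_ker ψ
  have hsurj : LinearMap.range ψ = ⊤ :=
    LinearMap.range_eq_top.2 fun k => ⟨k • y, by rw [map_smul, h1, smul_eq_mul, mul_one]⟩
  rw [hsurj, finrank_top, finrank_self, hm] at hrk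
  have h := Submodule.eq_of_le_of_finrank_le hle (by rw [finrank_span_singleton hz]; omega)
  show x ∈ (K ∙ z : Submodule K V)
  rw [h]; exact hx

theorem exists_phi_plane (C : Config M K) :
    ∃ φ ∈ Phi M K (C.g C.a), φ ≠ 0 := by
  haveI : FiniteDimensional F V := FiniteDimensional.trans F K V
  haveI : Finite K := Module.finite_of_finite F
  cases nonempty_fintype K
  cases nonempty_fintype F
  set g := C.g with hg
  set a := C.a with ha
  set z := g a with hz
  have hz0 : z ≠ 0 := fun h => C.a_ne (g.injective (h.trans (map_zero g).symm))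
  have hzP : z ∈ (line F K a).map g.toLinearMap := ⟨a, self_mem_line a, rfl⟩
  obtain ⟨ψ₁, hψz, hψ₂⟩ := exists_functional (K := K) (z := z) (y := C.y₂) C.y₂_not
  have hψL : ∀ x ∈ line F K z, ψ₁ x = 0 := by
    intro x hx; obtain ⟨l, rfl⟩ := mem_line.1 hx; simp [hψz]
  obtain ⟨χ, hχ₂, hχz⟩ := exists_functional (K := K) (z := C.y₂) (y := z) fun hmem => by
    obtain ⟨l, hl⟩ := Submodule.mem_span_singleton.1 hmem
    have := congrArg ψ₁ hl
    rw [map_smul, hψ₂, hψz, smul_eq_mul, mul_one] at this
    exact hz0 (by rw [← hl, this, zero_smul])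
  have hsplit : ∀ x : V, x = χ x • z + ψ₁ x • C.y₂ := by
    intro x
    obtain ⟨l, hl⟩ := mem_line.1 (mem_line_of_functional (F := F) hr hm hz0 hψz hψ₂
      (x := x - ψ₁ x • C.y₂) (by simp [hψ₂]))
    have : χ x = l := by
      have := congrArg χ hl
      simp [hχ₂, hχz] at this
      exact this.symm
    rw [this, hl]; abel
  have hya : g.symm C.y ∉ (K ∙ a : Submodule K V) := fun h =>
    C.y_not ⟨g.symm C.y, h, g.apply_symm_apply _⟩
  obtain ⟨ψ, hψa, hψy⟩ := exists_functional hya
  have hψker : ∀ x : V, ψ (g.symm x) = 0 → x ∈ (line F K a).map g.toLinearMap := fun x hx =>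
    ⟨g.symm x, mem_line_of_functional (F := F) hr hm C.a_ne hψa hψy hx, g.apply_symm_apply _⟩
  -- the element attached to a scalar `l`
  have hu : ∀ l : K, ∃ e ∈ M, ∀ x, e x = x + g (ψ (g.symm x) • (l • a)) := by
    intro l
    obtain ⟨e, he, hex⟩ := (has_root (F := F) hM (ψ := ψ) (a := l • a) (by simp [hψa])).conj C.mem
    exact ⟨e, he, fun x => hex x⟩
  let R : (K →ₗ[F] K) → Prop := fun θ => Has M (rmap ψ₁ z θ)
  have hR0 : R 0 := Has.zero.congr fun x => by simp [rmap_apply]
  have hRadd : ∀ θ θ', R θ → R θ' → R (θ + θ') := fun θ θ' h h' =>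
    ((Has.add h h' fun x => by simp [rmap_apply, hψz]).congr fun x => by simp [rmap_apply, add_smul])
  have hRneg : ∀ θ, R θ → R (-θ) := fun θ h =>
    ((Has.neg h fun x => by simp [rmap_apply, hψz]).congr fun x => by simp [rmap_apply])
  have hRmul : ∀ k : K, R (LinearMap.mulLeft F k) := fun k =>
    (has_root (F := F) hM (ψ := ψ₁) (a := k • z) (by simp [hψz])).congr fun x => by
      simp [rmap_apply, smul_smul, mul_comm]
  have hRnorm : ∀ ν : K, Algebra.norm F ν = 1 → ∀ θ, R θ → R (LinearMap.mulLeft F ν ∘ₗ θ) := by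
    intro ν hν θ h
    obtain ⟨e, he, hex⟩ := exists_dilation hM (χ := χ) (ψ := ψ₁) (a := z) (c := C.y₂) hχz hψ₂ hψz hχ₂
      (k := ν) (l := 1) (by rw [mul_one, hν])
    refine (h.conj he).congr fun x => ?_
    obtain ⟨x', rfl⟩ := e.surjective x
    have hψe : ψ₁ (e x') = ψ₁ x' := by rw [hex]; simp [hψz]
    simp only [LinearMap.comp_apply, LinearEquiv.coe_coe, e.symm_apply_apply, rmap_apply, hψe]
    rw [hex]
    simp only [
      sub_self, zero_mul, zero_smul, add_zero, map_add, map_smul, hψz, hψ₂, hχz, smul_eq_mul, mul_zero,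
      LinearMap.mulLeft_apply]
    rw [← add_smul]; congr 1; ring
  let S : Subring (Module.End F K) :=
    { carrier := {p | ∀ θ, R θ → R (p ∘ₗ θ)}
      mul_mem' := fun {p q} hp hq θ h => hp _ (hq θ h)
      one_mem' := fun θ h => h
      add_mem' := fun {p q} hp hq θ h => by rw [LinearMap.add_comp]; exact hRadd _ _ (hp θ h) (hq θ h)
      zero_mem' := fun θ _ => by rw [LinearMap.zero_comp]; exact hR0
      neg_mem' := fun {p} hp θ h => by rw [LinearMap.neg_comp]; exact hRneg _ (hp θ h) }
  have hSmul : ∀ k : K, LinearMap.mulLeft F k ∈ S :=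
    mem_of_norm_one_subring hr.two_le
      (S.comap (Algebra.lmul F K).toRingHom) (fun x hx => hRnorm x hx)
  obtain ⟨f₀, hf₀⟩ := exists_f₀ (F := F) (K := K)
  let f : K →ₗ[F] F := f₀ ∘ₗ ψ.restrictScalars F ∘ₗ g.symm.toLinearMap ∘ₗ
    (LinearMap.toSpanSingleton K V z).restrictScalars F
  have hψgz : ψ (g.symm z) = 0 := by rw [hz, g.symm_apply_apply, hψa]
  have hψgP : ∀ x ∈ (line F K a).map g.toLinearMap, ψ (g.symm x) = 0 := by
    rintro _ ⟨w, hw, rfl⟩
    obtain ⟨l, rfl⟩ := mem_line.1 hw
    simp [hψa]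
  have hf : ∀ l : K, ψ (g.symm (l • z)) = algebraMap F K (f l) := by
    intro l
    obtain ⟨c, hc⟩ := C.decomp (l • z) (smul_mem_line z l)
    have h1 : ψ (g.symm (l • z)) = algebraMap F K c := by
      have h := hψgP _ hc
      rw [map_sub, map_sub, LinearEquiv.map_smul g.symm c C.y, LinearMap.map_smul_of_tower, hψy, sub_eq_zero] at h
      rw [h, Algebra.algebraMap_eq_smul_one]
    show ψ (g.symm (l • z)) = algebraMap F K (f₀ (ψ (g.symm (l • z))))
    rw [h1, Algebra.algebraMap_eq_smul_one c, map_smul, hf₀, smul_eq_mul, mul_one,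
      Algebra.algebraMap_eq_smul_one]
  have hf1 : f 1 = 0 := by
    have := hf 1
    rw [one_smul, hψgz] at this
    exact (algebraMap F K).injective (by rw [← this, map_zero])
  obtain ⟨ky, hky⟩ := mem_line.1 C.y_mem
  have hfy : f ky = 1 := by
    have h := hf ky
    rw [hky, hψy] at h
    exact (algebraMap F K).injective (by rw [← h, map_one])
  -- the transvection on `K` induced by a scalar in `F`
  let τ : F → K →ₗ[F] K := fun s => LinearMap.id + s • (f.smulRight (1 : K))
  have hτ : ∀ s l, τ s l = l + algebraMap F K (s * f l) := fun s l => by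
    simp [τ, Algebra.smul_def]
  have hτadd : ∀ s t l, τ s (τ t l) = τ (s + t) l := fun s t l => by
    have h1 : f (algebraMap F K (t * f l)) = 0 := by
      rw [Algebra.algebraMap_eq_smul_one, map_smul, hf1, smul_zero]
    rw [hτ, hτ t, map_add f, h1, add_zero, hτ]
    simp only [map_add, add_mul]
    abel
  have hconj : ∀ (s : F) (k : K), τ s ∘ₗ LinearMap.mulLeft F k ∘ₗ τ (-s) ∈ S := by
    intro s k
    obtain ⟨e, he, hex⟩ := hu (algebraMap F K s)
    have heL : ∀ l : K, e (l • z) = τ s l • z := fun l => by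
      rw [hex, hf, hτ, add_smul]
      congr 1
      rw [smul_smul, ← map_mul, algebraMap_smul, map_smul, algebraMap_smul, mul_comm s, hz]
    have heL' : ∀ l : K, e.symm (l • z) = τ (-s) l • z := fun l => by
      rw [e.symm_apply_eq, heL, hτadd, add_neg_cancel]
      simp [τ]
    let π : K →ₗ[F] K := ψ₁.restrictScalars F ∘ₗ e.symm.toLinearMap ∘ₗ
      (LinearMap.toSpanSingleton K V C.y₂).restrictScalars F
    let π' : K →ₗ[F] K := ψ₁.restrictScalars F ∘ₗ e.toLinearMap ∘ₗ
      (LinearMap.toSpanSingleton K V C.y₂).restrictScalars F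
    have hπ : ∀ x, ψ₁ (e.symm x) = π (ψ₁ x) := fun x => by
      conv_lhs => rw [hsplit x]
      rw [map_add, map_add, heL', map_smul, hψz, smul_zero, zero_add]
      rfl
    have hπ' : ∀ x, ψ₁ (e x) = π' (ψ₁ x) := fun x => by
      conv_lhs => rw [hsplit x]
      rw [map_add, map_add, heL, map_smul, hψz, smul_zero, zero_add]
      rfl
    have hππ : ∀ l, π' (π l) = l := fun l => by
      show π' (ψ₁ (e.symm (l • C.y₂))) = l
      rw [← hπ', e.apply_symm_apply, map_smul, hψ₂, smul_eq_mul, mul_one]
    intro θ hθ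
    have h1 : R (τ (-s) ∘ₗ θ ∘ₗ π') :=
      (hθ.conj (inv_mem he)).congr fun x => by
        show e.symm (θ (ψ₁ (e x)) • z) = _
        rw [heL', hπ']; rfl
    have h2 := hSmul k _ h1
    refine (h2.conj he).congr fun x => ?_
    show e ((k * τ (-s) (θ (π' (ψ₁ (e.symm x))))) • z) = _
    rw [heL, hπ, hππ]
    rfl
  by_cases hgen : ∃ (s : F) (k₀ : K), τ s ∘ₗ LinearMap.mulLeft F k₀ ∘ₗ τ (-s) ≠
      LinearMap.mulLeft F ((τ s ∘ₗ LinearMap.mulLeft F k₀ ∘ₗ τ (-s)) 1)
  · -- density
    obtain ⟨s, k₀, hne⟩ := hgen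
    set p₀ := τ s ∘ₗ LinearMap.mulLeft F k₀ ∘ₗ τ (-s) with hp₀
    have hp₀S : p₀ ∈ S := hconj s k₀
    have hend : ∀ gg : Module.End S K, ∃ c : F, ∀ x, gg x = c • x := by
      intro gg
      have hg1 : ∀ x : K, gg x = x * gg 1 := fun x => by
        have := gg.map_smul (⟨_, hSmul x⟩ : S) 1
        change gg (x * 1) = x * gg 1 at this
        rwa [mul_one] at this
      let Sc : Subalgebra F K :=
        { carrier := {c : K | ∀ x, p₀ (c * x) = c * p₀ x}
          mul_mem' := fun {c d} hc hd x => by rw [mul_assoc, hc, hd, mul_assoc]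
          add_mem' := fun {c d} hc hd x => by rw [add_mul, map_add, hc, hd, add_mul]
          algebraMap_mem' := fun c x => by rw [← Algebra.smul_def, map_smul, Algebra.smul_def] }
      have hc : gg 1 ∈ Sc := fun x => by
        have h1 := gg.map_smul (⟨p₀, hp₀S⟩ : S) x
        change gg (p₀ x) = p₀ (gg x) at h1
        rw [hg1 (p₀ x), hg1 x] at h1
        rw [mul_comm (gg 1) x, ← h1, mul_comm]
      haveI := Subalgebra.isSimpleOrder_of_finrank_prime F K hr
      rcases eq_bot_or_eq_top Sc with hS | hS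
      · rw [hS, Algebra.mem_bot] at hc
        obtain ⟨c, hc⟩ := hc
        exact ⟨c, fun x => by rw [hg1, ← hc, mul_comm, Algebra.smul_def]⟩
      · refine absurd (LinearMap.ext fun x => ?_) hne
        have := (hS ▸ Algebra.mem_top : x ∈ Sc) 1
        rw [mul_one] at this
        rw [this, LinearMap.mulLeft_apply, mul_comm]
    haveI : IsSimpleModule S K := isSimpleModule_iff_toSpanSingleton_surjective.mpr
      ⟨inferInstance, fun v hv w => ⟨⟨_, hSmul (w / v)⟩, by
        show (w / v) * v = w
        rw [div_mul_cancel₀ w hv]⟩⟩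
    have hall : ∀ p : K →ₗ[F] K, R p := by
      intro p
      let P : Module.End (Module.End S K) K :=
        { toFun := p
          map_add' := p.map_add
          map_smul' := fun gg x => by
            obtain ⟨c, hc⟩ := hend gg
            show p (gg x) = gg (p x)
            rw [hc, hc, map_smul] }
      obtain ⟨sS, hsS⟩ := jacobson_density (R := S) P Finset.univ
      have hsp : (sS : Module.End F K) = p := LinearMap.ext fun x => (hsS x (Finset.mem_univ x)).symm
      have h := sS.2 _ (hRmul 1)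
      rw [hsp] at h
      exact h.congr fun x => by simp [rmap_apply]
    refine ⟨f₀ ∘ₗ ψ₁.restrictScalars F, ⟨fun w hw => by simp [hψL w hw], fun w hw => ?_⟩, fun h => ?_⟩
    · obtain ⟨l, rfl⟩ := mem_line.1 hw
      refine Has.congr (hall (f₀.smulRight l)) fun x => ?_
      simp [rmap_apply]
    · have := LinearMap.congr_fun h C.y₂
      simp [hψ₂, hf₀] at this
  -- the exceptional case: two elements in `F` and degree two
  push Not at hgen
  have hmul : ∀ (s : F) (k l : K), τ s (k * l) = τ s k * τ s l := by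
    intro s k l
    have h1 : ∀ l', τ (-s) (τ s l') = l' := fun l' => by rw [hτadd, neg_add_cancel]; simp [τ]
    have h2 : τ (-s) 1 = 1 := by rw [hτ, hf1, mul_zero, map_zero, add_zero]
    have h := LinearMap.congr_fun (hgen s k) (τ s l)
    simp only [LinearMap.comp_apply, LinearMap.mulLeft_apply, h1, h2, mul_one] at h
    exact h
  have hlaw : ∀ (s : F) (k l : K), algebraMap F K (s * f (k * l)) =
      algebraMap F K s * (k * algebraMap F K (f l) + l * algebraMap F K (f k)) +
        algebraMap F K s * algebraMap F K s * algebraMap F K (f k) * algebraMap F K (f l) := by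
    intro s k l
    have := hmul s k l
    rw [hτ, hτ, hτ] at this
    simp only [map_mul (algebraMap F K)] at this ⊢
    linear_combination this
  have hF : ∀ s : F, s = 0 ∨ s = 1 := by
    intro s
    rcases eq_or_ne s 0 with h0 | h0
    · exact Or.inl h0
    refine Or.inr ((algebraMap F K).injective ?_)
    have h1 := hlaw 1 ky ky
    have h2 := hlaw s ky ky
    simp only [one_mul, map_mul, map_one, hfy, mul_one] at h1 h2
    have h3 : algebraMap F K s * (algebraMap F K s - 1) = 0 := by
      linear_combination algebraMap F K s * h1 - h2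
    rcases mul_eq_zero.1 h3 with h | h
    · exact absurd ((map_eq_zero _).1 h) h0
    · rw [map_one]; exact sub_eq_zero.1 h
  have hky_not : ∀ c : F, algebraMap F K c ≠ ky := fun c hc => C.y_not (by
    rw [← hky, ← hc, algebraMap_smul]
    exact Submodule.smul_mem _ c hzP)
  have hr2 : finrank F K = 2 := by
    have hle : LinearMap.ker f ≤ (F ∙ (1 : K) : Submodule F K) := by
      intro l hl
      rw [LinearMap.mem_ker] at hl
      have h1 := hlaw 1 ky l
      simp only [one_mul, map_one, hl, map_zero, mul_zero, zero_add, add_zero, hfy, mul_one] at h1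
      exact Submodule.mem_span_singleton.2 ⟨f (ky * l), by rw [← Algebra.algebraMap_eq_smul_one, h1]⟩
    have h1 := Submodule.finrank_mono hle
    rw [finrank_span_singleton (one_ne_zero : (1 : K) ≠ 0)] at h1
    have h2 := f.finrank_range_add_finrank_ker
    have h3 : finrank F (LinearMap.range f) ≤ 1 := (Submodule.finrank_le _).trans (finrank_self F).le
    have := hr.two_le
    omega
  have hFcard : Nat.card F = 2 := by
    refine le_antisymm ?_ Finite.one_lt_card
    rw [Nat.card_eq_fintype_card]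
    classical
    calc Fintype.card F ≤ ({0, 1} : Finset F).card := Finset.card_le_card fun s _ => by
          rcases hF s with rfl | rfl <;> simp
      _ ≤ 2 := Finset.card_le_two
  haveI : CharP K 2 := by
    haveI : CharP F 2 := by
      rw [Nat.card_eq_fintype_card] at hFcard
      exact charP_of_card_eq_prime hFcard
    exact charP_of_injective_algebraMap (algebraMap F K).injective 2
  have h2K : ∀ x : K, x + x = 0 := fun x => CharTwo.add_self_eq_zero x
  have h2V : ∀ x : V, x + x = 0 := fun x => by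
    rw [← one_smul K x, ← add_smul, h2K, zero_smul]
  have hω : ky ≠ 0 ∧ ky ≠ 1 := ⟨fun h => hky_not 0 (by rw [h, map_zero]), fun h => hky_not 1 (by rw [h, map_one])⟩
  have hω' : ky + 1 ≠ 0 ∧ ky + 1 ≠ 1 ∧ ky + 1 ≠ ky :=
    ⟨fun h => hω.2 (by have := congrArg (· + 1) h; simpa [add_assoc, h2K] using this),
      fun h => hω.1 (by simpa using h), fun h => by simp at h⟩
  have hKall : ∀ x : K, x = 0 ∨ x = 1 ∨ x = ky ∨ x = ky + 1 := by
    intro x
    classical
    by_contra hx
    push Not at hx
    have hc : Fintype.card K = 4 := by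
      rw [← Nat.card_eq_fintype_card, Module.natCard_eq_pow_finrank (K := F), hFcard, hr2]
      norm_num
    have h5 : ({0, 1, ky, ky + 1, x} : Finset K).card = 5 := by
      simp [hx.1.symm, hx.2.1.symm, hx.2.2.1.symm, hx.2.2.2.symm, hω.1.symm, hω.2.symm, hω'.1.symm,
        hω'.2.1.symm, hω'.2.2.symm]
    have := Finset.card_le_univ ({0, 1, ky, ky + 1, x} : Finset K)
    omega
  have hωsq : ky * ky = ky + 1 := by
    rcases hKall (ky * ky) with h | h | h | h
    · exact absurd (mul_self_eq_zero.1 h) hω.1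
    · refine absurd ?_ hω'.1
      have : (ky + 1) * (ky + 1) = 0 := by linear_combination h + h2K ky + h2K 1
      exact mul_self_eq_zero.1 this
    · exact absurd (mul_left_cancel₀ hω.1 (h.trans (mul_one ky).symm)) hω.2
    · exact h
  have hunit : ∀ x : K, x ≠ 0 → Algebra.norm F x = 1 := fun x hx =>
    (hF _).resolve_left fun h => hx (Algebra.norm_eq_zero_iff.1 h)
  obtain ⟨w, hw, hwy⟩ := C.y₂_mem
  obtain ⟨κ, rfl⟩ := mem_line.1 hw
  change g (κ • a) = C.y₂ at hwy
  have hκ : κ ≠ 0 ∧ κ ≠ 1 :=
    ⟨fun h => C.y₂_not (by rw [← hwy, h, zero_smul, map_zero]; exact Submodule.zero_mem _),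
      fun h => C.y₂_not (by rw [← hwy, h, one_smul]; exact self_mem_line _)⟩
  have hy₂L : ∀ k : K, k ≠ 0 → k • C.y₂ ∉ line F K z := fun k hk hmem => C.y₂_not (by
    have := (K ∙ z : Submodule K V).smul_mem k⁻¹ hmem
    rwa [inv_smul_smul₀ hk] at this)
  set ν := ψ (g.symm (ky • C.y₂)) with hν
  have hν0 : ν ≠ 0 := fun h => by
    obtain ⟨c, hc⟩ := C.decomp₂ _ (hψker _ h)
    rw [← algebraMap_smul K c C.y₂, ← sub_smul] at hc
    exact hy₂L _ (sub_ne_zero.2 (hky_not c).symm) hc
  have hν1 : ν ≠ 1 := fun h => by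
    obtain ⟨c, hc⟩ := C.decomp₂ _ (hψker (ky • C.y₂ - C.y) (by rw [map_sub, map_sub, ← hν, h, hψy, sub_self]))
    have hc' := Submodule.add_mem _ hc C.y_mem
    rw [show ky • C.y₂ - C.y - c • C.y₂ + C.y = (ky - algebraMap F K c) • C.y₂ by
      rw [sub_smul, algebraMap_smul]; abel] at hc'
    exact hy₂L _ (sub_ne_zero.2 (hky_not c).symm) hc'
  have hκsq : κ * κ = κ + 1 := by
    rcases hKall κ with h | h | h | h
    · exact absurd h hκ.1
    · exact absurd h hκ.2
    · rw [h, hωsq]
    · rw [h]; linear_combination hωsq + h2K ky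
  have hcases : ν = κ ∨ ν = κ + 1 := by
    rcases hKall κ with h | h | h | h <;> rcases hKall ν with h' | h' | h' | h'
    all_goals first
      | exact absurd h hκ.1 | exact absurd h hκ.2 | exact absurd h' hν0 | exact absurd h' hν1
      | exact Or.inl (h'.trans h.symm)
      | exact Or.inr (by rw [h, h', add_assoc, h2K, add_zero])
      | exact Or.inr (by rw [h, h'])
      | exact Or.inr (by rw [h, h', add_assoc, h2K, add_zero])
  have hone : g ((κ + 1) • a) = C.y₂ + z := by rw [add_smul, one_smul, map_add, hwy]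
  -- the four vectors span
  have hext : ∀ A B : V →ₗ[F] V, A z = B z → A (ky • z) = B (ky • z) → A C.y₂ = B C.y₂ →
      A (ky • C.y₂) = B (ky • C.y₂) → ∀ x, A x = B x := by
    intro A B h1 h2 h3 h4 x
    rw [hsplit x, map_add, map_add]
    congr 1
    · rcases hKall (χ x) with h | h | h | h <;> simp [h, add_smul, h1, h2]
    · rcases hKall (ψ₁ x) with h | h | h | h <;> simp [h, add_smul, h3, h4]
  have hψgy₂ : ψ (g.symm C.y₂) = 0 := hψgP _ C.y₂_mem
  have hψgy : ψ (g.symm (ky • z)) = 1 := by rw [hky, hψy]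
  -- elementary elements
  obtain ⟨d, hd, hdx⟩ := exists_dilation hM (χ := χ) (ψ := ψ₁) (a := z) (c := C.y₂) hχz hψ₂ hψz hχ₂
    (k := ky) (l := 1) (by rw [mul_one]; exact hunit _ hω.1)
  have hdv : ∀ p q : K, d (p • z + q • C.y₂) = (ky * p) • z + q • C.y₂ := fun p q => by
    rw [hdx]; simp only [map_add, map_smul, hχz, hψ₂, hψz, hχ₂, sub_self, zero_mul, zero_smul, add_zero,
      smul_eq_mul, mul_one, mul_zero, sub_mul, one_mul, sub_smul]; abel
  have hT : ∀ k : K, ∃ e ∈ M, ∀ p q : K, e (p • z + q • C.y₂) = (p + k * q) • z + q • C.y₂ := fun k => by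
    obtain ⟨e, he, hex⟩ := has_root (F := F) hM (ψ := ψ₁) (a := k • z) (by simp [hψz])
    exact ⟨e, he, fun p q => by rw [hex]; simp [hψz, hψ₂, add_smul, smul_smul, mul_comm k]; abel⟩
  have hL : ∀ k : K, ∃ e ∈ M, ∀ p q : K, e (p • z + q • C.y₂) = p • z + (q + k * p) • C.y₂ := fun k => by
    obtain ⟨e, he, hex⟩ := has_root (F := F) hM (ψ := χ) (a := k • C.y₂) (by simp [hχ₂])
    exact ⟨e, he, fun p q => by rw [hex]; simp [hχz, hχ₂, add_smul, smul_smul, mul_comm k]; abel⟩
  suffices H : ∃ (φ : V →ₗ[F] F) (w₀ : K), (∀ x ∈ line F K z, φ x = 0) ∧ φ ≠ 0 ∧ w₀ ≠ 0 ∧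
      Has M (φ.smulRight (w₀ • z)) by
    obtain ⟨φ, w₀, hφL, hφ0, hw₀, hH⟩ := H
    refine ⟨φ, ⟨hφL, fun w hw => ?_⟩, hφ0⟩
    obtain ⟨l, rfl⟩ := mem_line.1 hw
    rcases eq_or_ne l 0 with rfl | hl
    · exact Has.zero.congr fun x => by simp
    obtain ⟨e, he, hex⟩ := exists_dilation hM (χ := χ) (ψ := ψ₁) (a := z) (c := C.y₂) hχz hψ₂ hψz hχ₂
      (k := l * w₀⁻¹) (l := 1) (by rw [mul_one]; exact hunit _ (mul_ne_zero hl (inv_ne_zero hw₀)))
    refine (hH.conj he).congr fun x => ?_
    obtain ⟨x', rfl⟩ := e.surjective x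
    simp only [LinearMap.comp_apply, LinearEquiv.coe_coe, e.symm_apply_apply, LinearMap.smulRight_apply]
    have hφe : φ (e x') = φ x' := by
      rw [hex, sub_self, zero_mul, zero_smul, add_zero, map_add, hφL _ (smul_mem_line z _), add_zero]
    rw [hφe, map_smul, hex]
    simp only [map_smul, hχz, hψz, sub_self, zero_mul, zero_smul, add_zero, smul_eq_mul, mul_one, ← add_smul]
    congr 2
    field_simp
    ring
  -- values on coordinates
  have hψq : ∀ q : K, ψ (g.symm (q • C.y₂)) = algebraMap F K (f q) * ν := fun q => by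
    rcases hKall q with h | h | h | h <;>
      simp [h, add_smul, map_add, hψgy₂, hf1, hfy, ← hν]
  have hmove : ∀ (l : K), ∃ e ∈ M, ∀ p q : K, e (p • z + q • C.y₂) =
      p • z + q • C.y₂ + g ((algebraMap F K (f p) * l) • a) + g ((algebraMap F K (f q) * (ν * l)) • a) := by
    intro l
    obtain ⟨e, he, hex⟩ := hu l
    refine ⟨e, he, fun p q => ?_⟩
    rw [hex, map_add, map_add, hf, hψq, add_smul, map_add, smul_smul, smul_smul, mul_assoc]
    abel
  have hgscal : ∀ (c : F) (k : K), g ((algebraMap F K c * k) • a) = algebraMap F K c • g (k • a) :=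
    fun c k => by rw [mul_smul, algebraMap_smul, algebraMap_smul, map_smul]
  have h2f : ∀ x : F, x + x = 0 := fun x => (algebraMap F K).injective (by rw [map_add, h2K, map_zero])
  have hlit : ∀ (n : ℕ) [n.AtLeastTwo], (OfNat.ofNat n : K) = ((n % 2 : ℕ) : K) := fun n _ => by
    rw [← Nat.cast_ofNat (R := K)]; exact CharP.cast_eq_mod K 2 n
  -- the computation in `GL(4, 2)`
  rcases hcases with hνκ | hνκ
  · obtain ⟨t, ht, htx⟩ := hmove κ
    have ht' : ∀ p q : K, t (p • z + q • C.y₂) = (p + algebraMap F K (f q)) • z +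
        (q + algebraMap F K (f p) + algebraMap F K (f q)) • C.y₂ := fun p q => by
      rw [htx, hgscal, hgscal, hνκ, hκsq, hwy, hone]
      simp only [smul_add, add_smul]
      abel
    obtain ⟨A, hA, hAx⟩ := hL ky
    obtain ⟨B, hB, hBx⟩ := hT ky
    obtain ⟨A', hA', hAx'⟩ := hL (ky + 1)
    obtain ⟨B', hB', hBx'⟩ := hT (ky + 1)
    let φ : V →ₗ[F] F := (f₀ + (1 - f₀ ky) • f) ∘ₗ ψ₁.restrictScalars F
    refine ⟨φ, 1, fun x hx => by simp [φ, hψL x hx], fun h => ?_, one_ne_zero,
      A * d * B * t * A' * B' * t,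
      mul_mem (mul_mem (mul_mem (mul_mem (mul_mem (mul_mem hA hd) hB) ht) hA') hB') ht, ?_⟩
    · have := LinearMap.congr_fun h C.y₂
      simp [φ, hψ₂, hf₀, hf1] at this
    intro x
    refine hext (A * d * B * t * A' * B' * t).toLinearMap (LinearMap.id + φ.smulRight ((1 : K) • z))
      ?_ ?_ ?_ ?_ x
    · have hh := congrArg (A * d * B * t * A' * B' * t) (show (1 : K) • z + (0 : K) • C.y₂ = z by simp)
      simp only [LinearEquiv.mul_apply, ht', hBx', hAx', hBx, hdv, hAx] at hh
      simp only [LinearEquiv.coe_coe, LinearEquiv.mul_apply, ← hh, LinearMap.add_apply, LinearMap.id_apply,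
        LinearMap.smulRight_apply, φ, LinearMap.comp_apply, LinearMap.coe_restrictScalars]
      simp [hψz, hf1, hfy, hωsq, mul_add, add_mul, map_add, h2K, h2f, add_smul]
      all_goals (match_scalars <;> ring_nf <;> simp [hlit])
    · have hh := congrArg (A * d * B * t * A' * B' * t) (show ky • z + (0 : K) • C.y₂ = ky • z by simp)
      simp only [LinearEquiv.mul_apply, ht', hBx', hAx', hBx, hdv, hAx] at hh
      simp only [LinearEquiv.coe_coe, LinearEquiv.mul_apply, ← hh, LinearMap.add_apply, LinearMap.id_apply,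
        LinearMap.smulRight_apply, φ, LinearMap.comp_apply, LinearMap.coe_restrictScalars]
      simp [hψz, hf1, hfy, hωsq, mul_add, add_mul, map_add, h2K, h2f, add_smul]
      all_goals (match_scalars <;> ring_nf <;> simp [hlit])
    · have hh := congrArg (A * d * B * t * A' * B' * t) (show (0 : K) • z + (1 : K) • C.y₂ = C.y₂ by simp)
      simp only [LinearEquiv.mul_apply, ht', hBx', hAx', hBx, hdv, hAx] at hh
      simp only [LinearEquiv.coe_coe, LinearEquiv.mul_apply, ← hh, LinearMap.add_apply, LinearMap.id_apply,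
        LinearMap.smulRight_apply, φ, LinearMap.comp_apply, LinearMap.coe_restrictScalars]
      simp [hψ₂, hf1, hfy, hf₀, hωsq, mul_add, add_mul, map_add, h2K, h2f, add_smul]
      all_goals (match_scalars <;> ring_nf <;> simp [hlit])
    · have hh := congrArg (A * d * B * t * A' * B' * t) (show (0 : K) • z + ky • C.y₂ = ky • C.y₂ by simp)
      simp only [LinearEquiv.mul_apply, ht', hBx', hAx', hBx, hdv, hAx] at hh
      simp only [LinearEquiv.coe_coe, LinearEquiv.mul_apply, ← hh, LinearMap.add_apply, LinearMap.id_apply,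
        LinearMap.smulRight_apply, φ, LinearMap.comp_apply, LinearMap.coe_restrictScalars]
      simp [hψ₂, hf1, hfy, hf₀, hωsq, mul_add, add_mul, map_add, h2K, h2f, add_smul]
      all_goals (match_scalars <;> ring_nf <;> simp [hlit])
  · obtain ⟨u, hu', hux⟩ := hmove 1
    have hu1 : ∀ p q : K, u (p • z + q • C.y₂) = (p + algebraMap F K (f p) + algebraMap F K (f q)) • z +
        (q + algebraMap F K (f q)) • C.y₂ := fun p q => by
      rw [hux, hgscal, hgscal, hνκ, mul_one, hone, one_smul]
      simp only [smul_add, add_smul]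
      abel
    let φ : V →ₗ[F] F := f ∘ₗ ψ₁.restrictScalars F
    refine ⟨φ, ky + 1, fun x hx => by simp [φ, hψL x hx], fun h => ?_, hω'.1,
      d * u * d * u, mul_mem (mul_mem (mul_mem hd hu') hd) hu', ?_⟩
    · have := LinearMap.congr_fun h (ky • C.y₂)
      simp [φ, hψ₂, hfy] at this
    intro x
    refine hext (d * u * d * u).toLinearMap (LinearMap.id + φ.smulRight ((ky + 1) • z)) ?_ ?_ ?_ ?_ x
    · have hh := congrArg (d * u * d * u) (show (1 : K) • z + (0 : K) • C.y₂ = z by simp)
      simp only [LinearEquiv.mul_apply, hu1, hdv] at hh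
      simp only [LinearEquiv.coe_coe, LinearEquiv.mul_apply, ← hh, LinearMap.add_apply, LinearMap.id_apply,
        LinearMap.smulRight_apply, φ, LinearMap.comp_apply, LinearMap.coe_restrictScalars]
      simp [hψz, hf1, hfy, hωsq, mul_add, add_mul, map_add, h2K, h2f, add_smul]
      all_goals (match_scalars <;> ring_nf <;> simp [hlit])
    · have hh := congrArg (d * u * d * u) (show ky • z + (0 : K) • C.y₂ = ky • z by simp)
      simp only [LinearEquiv.mul_apply, hu1, hdv] at hh
      simp only [LinearEquiv.coe_coe, LinearEquiv.mul_apply, ← hh, LinearMap.add_apply, LinearMap.id_apply,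
        LinearMap.smulRight_apply, φ, LinearMap.comp_apply, LinearMap.coe_restrictScalars]
      simp [hψz, hf1, hfy, hωsq, mul_add, add_mul, map_add, h2K, h2f, add_smul]
      all_goals (match_scalars <;> ring_nf <;> simp [hlit])
    · have hh := congrArg (d * u * d * u) (show (0 : K) • z + (1 : K) • C.y₂ = C.y₂ by simp)
      simp only [LinearEquiv.mul_apply, hu1, hdv] at hh
      simp only [LinearEquiv.coe_coe, LinearEquiv.mul_apply, ← hh, LinearMap.add_apply, LinearMap.id_apply,
        LinearMap.smulRight_apply, φ, LinearMap.comp_apply, LinearMap.coe_restrictScalars]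
      simp [hψ₂, hf1, hfy, hf₀, hωsq, mul_add, add_mul, map_add, h2K, h2f, add_smul]
      all_goals (match_scalars <;> ring_nf <;> simp [hlit])
    · have hh := congrArg (d * u * d * u) (show (0 : K) • z + ky • C.y₂ = ky • C.y₂ by simp)
      simp only [LinearEquiv.mul_apply, hu1, hdv] at hh
      simp only [LinearEquiv.coe_coe, LinearEquiv.mul_apply, ← hh, LinearMap.add_apply, LinearMap.id_apply,
        LinearMap.smulRight_apply, φ, LinearMap.comp_apply, LinearMap.coe_restrictScalars]
      simp [hψ₂, hf1, hfy, hf₀, hωsq, mul_add, add_mul, map_add, h2K, h2f, add_smul]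
      all_goals (match_scalars <;> ring_nf <;> simp [hlit])

end CfsgLib.Classical.FieldExtMax
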