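import Cfsg.Agent.Lib.Classical.FieldExtMax.Basic

/-!
# Spreading one full family of transvections to all transvections
-/

set_option autoImplicit false
set_option linter.unusedSectionVars false

namespace CfsgLib.Classical.FieldExtMax

open Module

variable {F K V : Type*} [Field F] [Field K] [Algebra F K] [AddCommGroup V] [Module F V] [Module K V]
  [IsScalarTower F K V] [FiniteDimensional F K] [FiniteDimensional K V] {M : Subgroup (V ≃ₗ[F] V)}

/-- A functional with a prescribed value at `y`, killing `z`. -/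
theorem exists_functional {z y : V} (hy : y ∉ (K ∙ z : Submodule K V)) :
    ∃ ψ : V →ₗ[K] K, ψ z = 0 ∧ ψ y = 1 := by
  obtain ⟨ψ, h1, h2⟩ := Submodule.exists_dual_map_eq_bot_of_notMem hy inferInstance
  refine ⟨(ψ y)⁻¹ • ψ, ?_, by simp [h1]⟩
  have h3 : ψ z ∈ (K ∙ z : Submodule K V).map ψ := ⟨z, Submodule.mem_span_singleton_self z, rfl⟩
  rw [h2, Submodule.mem_bot] at h3
  simp [h3]

/-- A functional killing two given vectors, when the dimension exceeds two. -/
theorem exists_functional₂ (hm : 3 ≤ finrank K V) (z y : V) :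
    ∃ ψ : V →ₗ[K] K, ψ ≠ 0 ∧ ψ z = 0 ∧ ψ y = 0 := by
  classical
  have hlt : Submodule.span K ({z, y} : Set V) < ⊤ := by
    refine lt_top_iff_ne_top.2 fun h => ?_
    have h1 := finrank_span_le_card (R := K) ({z, y} : Set V)
    rw [h, finrank_top] at h1
    have h2 : ({z, y} : Set V).toFinset.card ≤ 2 := by
      rw [Set.toFinset_insert, Set.toFinset_singleton]; exact Finset.card_le_two
    omega
  obtain ⟨ψ, h0, h1⟩ := Submodule.exists_dual_map_eq_bot_of_lt_top hlt inferInstance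
  refine ⟨ψ, h0, ?_, ?_⟩
  · have := Submodule.mem_map_of_mem (f := ψ) (Submodule.subset_span (Set.mem_insert z {y}))
    rwa [h1, Submodule.mem_bot] at this
  · have := Submodule.mem_map_of_mem (f := ψ)
      (Submodule.subset_span (Set.mem_insert_of_mem z (Set.mem_singleton y)))
    rwa [h1, Submodule.mem_bot] at this

/-- Some `F`-functional on `K` with value one at `1`. -/
theorem exists_f₀ : ∃ f₀ : K →ₗ[F] F, f₀ 1 = 1 := by
  obtain ⟨f, hf⟩ := Module.Projective.exists_dual_ne_zero F (one_ne_zero : (1 : K) ≠ 0)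
  exact ⟨(f 1)⁻¹ • f, by simp [hf]⟩

/-- Every functional over `F` factors through one over `K`. -/
theorem exists_lift {f₀ : K →ₗ[F] F} (hf₀ : f₀ ≠ 0) (φ : V →ₗ[F] F) :
    ∃ ψ : V →ₗ[K] K, ∀ x, φ x = f₀ (ψ x) := by
  haveI : FiniteDimensional F V := FiniteDimensional.trans F K V
  let Φ : (V →ₗ[K] K) →ₗ[F] (V →ₗ[F] F) :=
    { toFun := fun ψ => f₀ ∘ₗ ψ.restrictScalars F
      map_add' := fun a b => LinearMap.ext fun x => by simp
      map_smul' := fun c a => LinearMap.ext fun x => by simp }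
  have hinj : Function.Injective Φ := (injective_iff_map_eq_zero Φ).2 fun ψ hψ => by
    ext x
    by_contra hne
    refine hf₀ (LinearMap.ext fun k => ?_)
    have h := LinearMap.congr_fun hψ ((k * (ψ x)⁻¹) • x)
    have hne' : ψ x ≠ 0 := hne
    simpa [Φ, mul_assoc, hne'] using h
  have hdim : finrank F (V →ₗ[K] K) = finrank F (V →ₗ[F] F) := by
    rw [← finrank_mul_finrank F K (V →ₗ[K] K), finrank_linearMap, finrank_linearMap, finrank_self,
      finrank_self, mul_one, mul_one, ← finrank_mul_finrank F K V]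
  obtain ⟨ψ, hψ⟩ := (LinearMap.injective_iff_surjective_of_finrank_eq_finrank hdim).1 hinj φ
  exact ⟨ψ, fun x => by rw [← hψ]; rfl⟩

theorem kills_line {f₀ : K →ₗ[F] F} (hf₀ : f₀ ≠ 0) {φ : V →ₗ[F] F} {ψ : V →ₗ[K] K}
    (h : ∀ x, φ x = f₀ (ψ x)) {b : V} : (∀ w ∈ line F K b, φ w = 0) ↔ ψ b = 0 := by
  constructor
  · intro hb
    by_contra hne
    refine hf₀ (LinearMap.ext fun k => ?_)
    have := hb _ (smul_mem_line b (k * (ψ b)⁻¹))
    rw [h] at this
    simpa [hne, mul_assoc] using this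
  · intro hb w hw
    obtain ⟨k, rfl⟩ := mem_line.1 hw
    simp [h, hb]

/-- The functionals `φ` killing the line of `b` with all `x ↦ φ x • w` in `M`. -/
def Phi (M : Subgroup (V ≃ₗ[F] V)) (K : Type*) [Field K] [Algebra F K] [Module K V] [IsScalarTower F K V]
    (b : V) : Set (V →ₗ[F] F) :=
  {φ | (∀ w ∈ line F K b, φ w = 0) ∧ ∀ w ∈ line F K b, Has M (φ.smulRight w)}

theorem phi_zero (b : V) : (0 : V →ₗ[F] F) ∈ Phi M K b :=
  ⟨fun w _ => rfl, fun w _ => Has.zero.congr fun x => by simp⟩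

theorem phi_add {b : V} {φ φ' : V →ₗ[F] F} (h : φ ∈ Phi M K b) (h' : φ' ∈ Phi M K b) :
    φ + φ' ∈ Phi M K b := by
  refine ⟨fun w hw => by simp [h.1 w hw, h'.1 w hw], fun w hw => ?_⟩
  refine ((h.2 w hw).add (h'.2 w hw) fun x => ?_).congr fun x => by simp [add_smul]
  simp [h.1 w hw]

theorem phi_neg {b : V} {φ : V →ₗ[F] F} (h : φ ∈ Phi M K b) : -φ ∈ Phi M K b := by
  refine ⟨fun w hw => by simp [h.1 w hw], fun w hw => ?_⟩
  exact ((h.2 w hw).neg fun x => by simp [h.1 w hw]).congr fun x => by simp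

theorem phi_move {b : V} {φ : V →ₗ[F] F} (h : φ ∈ Phi M K b) {e : V ≃ₗ[F] V} (he : e ∈ M) {b' : V}
    (hb : (line F K b).map e.toLinearMap = line F K b') : φ ∘ₗ e.symm.toLinearMap ∈ Phi M K b' := by
  have key : ∀ w ∈ line F K b', e.symm w ∈ line F K b := by
    intro w hw
    rw [← hb] at hw
    obtain ⟨v, hv, rfl⟩ := hw
    simpa using hv
  refine ⟨fun w hw => h.1 _ (key w hw), fun w hw => ?_⟩
  exact ((h.2 _ (key w hw)).conj he).congr fun x => by simp

variable (hM : ContainsSL K M)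
include hM

theorem mem_phi_of_sl {f₀ : K →ₗ[F] F} (hf₀ : f₀ ≠ 0) {b : V} (hb : b ≠ 0) {φ : V →ₗ[F] F}
    (hφ : φ ∈ Phi M K b) (hφ0 : φ ≠ 0) (φ' : V →ₗ[F] F) (h' : ∀ w ∈ line F K b, φ' w = 0) :
    φ' ∈ Phi M K b := by
  obtain ⟨ψ, hψ⟩ := exists_lift hf₀ φ
  obtain ⟨χ, hχ⟩ := exists_lift hf₀ φ'
  have hψb := (kills_line hf₀ hψ).1 hφ.1
  have hχb := (kills_line hf₀ hχ).1 h'
  obtain ⟨c, hc⟩ : ∃ c, ψ c = 1 := by
    have : ψ ≠ 0 := fun h0 => hφ0 (LinearMap.ext fun x => by simp [hψ, h0])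
    obtain ⟨c, hc⟩ := DFunLike.ne_iff.1 this
    exact ⟨(ψ c)⁻¹ • c, by rw [LinearMap.zero_apply] at hc; simp [hc]⟩
  have hfix : ∀ (e : V ≃ₗ[F] V) (k : K), (∀ l : K, e (l • b) = (k * l) • b) → k ≠ 0 →
      (line F K b).map e.toLinearMap = line F K b := by
    intro e k he hk
    apply le_antisymm
    · rintro _ ⟨w, hw, rfl⟩
      obtain ⟨l, rfl⟩ := mem_line.1 hw
      exact mem_line.2 ⟨k * l, (he l).symm⟩
    · intro w hw
      obtain ⟨l, rfl⟩ := mem_line.1 hw
      exact ⟨(k⁻¹ * l) • b, smul_mem_line _ _, by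
        show e _ = _
        rw [he, ← mul_assoc, mul_inv_cancel₀ hk, one_mul]⟩
  -- multiples of `ψ`
  have hbc : b ∉ (K ∙ c : Submodule K V) := fun hmem => by
    obtain ⟨k, hk⟩ := Submodule.mem_span_singleton.1 hmem
    have := congrArg ψ hk
    rw [map_smul, hc, hψb, smul_eq_mul, mul_one] at this
    exact hb (by rw [← hk, this, zero_smul])
  obtain ⟨ζ, hζc, hζb⟩ := exists_functional hbc
  have hscal : ∀ (k : K) (φ₁ : V →ₗ[F] F), (∀ x, φ₁ x = f₀ (k * ψ x)) → φ₁ ∈ Phi M K b := by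
    intro k φ₁ h₁
    rcases eq_or_ne k 0 with rfl | hk
    · have e0 : φ₁ = 0 := LinearMap.ext fun x => by simp [h₁]
      rw [e0]; exact phi_zero b
    obtain ⟨e, he, hex⟩ := exists_dilation hM (χ := ζ) (ψ := ψ) (a := b) (c := c) hζb hc hψb hζc
      (k := k) (l := k⁻¹) (by rw [mul_inv_cancel₀ hk, map_one])
    have heb : ∀ l : K, e (l • b) = (k * l) • b := fun l => by
      rw [hex]; simp only [map_smul, hζb, hψb, smul_eq_mul, mul_one, mul_zero, zero_smul, add_zero]
      rw [← add_smul]; congr 1; ring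
    have h2 := phi_move hφ he (hfix e k heb hk)
    have e1 : φ₁ = φ ∘ₗ e.symm.toLinearMap := LinearMap.ext fun x => by
      obtain ⟨y, rfl⟩ := e.surjective x
      rw [LinearMap.comp_apply, LinearEquiv.coe_coe, e.symm_apply_apply, h₁, hψ, hex]
      congr 1
      simp only [map_add, map_smul, hψb, hc, smul_eq_mul, mul_zero, add_zero, mul_one]
      field_simp
      ring
    rw [e1]; exact h2
  -- functionals killing `c`
  let χ₁ : V →ₗ[K] K := χ - χ c • ψ
  have hχ₁c : χ₁ c = 0 := by simp [χ₁, hc]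
  have hχ₁b : χ₁ b = 0 := by simp [χ₁, hψb, hχb]
  have hA : f₀ ∘ₗ χ₁.restrictScalars F ∈ Phi M K b := by
    obtain ⟨e, he, hex⟩ := has_root (F := F) hM hχ₁c
    have heb : ∀ l : K, e (l • b) = (1 * l) • b := fun l => by
      rw [hex]; simp [hχ₁b]
    have h2 := phi_add hφ (phi_neg (phi_move hφ he (hfix e 1 heb one_ne_zero)))
    have e1 : f₀ ∘ₗ χ₁.restrictScalars F = φ + -(φ ∘ₗ e.symm.toLinearMap) := LinearMap.ext fun x => by
      obtain ⟨y, rfl⟩ := e.surjective x
      simp only [LinearMap.add_apply, LinearMap.neg_apply, LinearMap.comp_apply, LinearEquiv.coe_coe,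
        e.symm_apply_apply]
      simp only [hex, hψ, LinearMap.coe_restrictScalars, LinearMap.smulRight_apply, map_add,
        map_smul, hc, hχ₁c, smul_eq_mul, mul_one, mul_zero, add_zero]
      ring
    rw [e1]; exact h2
  have h3 := phi_add hA (hscal (χ c) (f₀ ∘ₗ (χ c • ψ).restrictScalars F) fun x => by simp)
  convert h3 using 1
  exact LinearMap.ext fun x => by simp [χ₁, hχ, ← map_add]

/-- One nontrivial family of transvections gives all transvections. -/
theorem has_all_transvections (hm : 2 ≤ finrank K V) {b : V} (hb : b ≠ 0) {φ : V →ₗ[F] F}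
    (hφ : φ ∈ Phi M K b) (hφ0 : φ ≠ 0) (v : V) (f : V →ₗ[F] F) (hf : f v = 0) :
    Has M (f.smulRight v) := by
  obtain ⟨f₀, hf₀1⟩ := exists_f₀ (F := F) (K := K)
  have hf₀ : f₀ ≠ 0 := fun h => by simp [h] at hf₀1
  have hline : ∀ b' : V, b' ≠ 0 → ∀ φ' : V →ₗ[F] F, (∀ w ∈ line F K b', φ' w = 0) → φ' ∈ Phi M K b' := by
    intro b' hb' φ' hφ'
    by_cases hdep : b' ∈ line F K b
    · have e := line_eq_of_mem hdep hb'
      have h := mem_phi_of_sl hM hf₀ hb hφ hφ0 φ' (by rwa [← e])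
      exact ⟨fun w hw => h.1 w (e ▸ hw), fun w hw => h.2 w (e ▸ hw)⟩
    · have hne : b' - b ∉ (K ∙ b : Submodule K V) := fun h => hdep (by
        have h2 := Submodule.add_mem _ h (Submodule.mem_span_singleton_self b)
        rwa [sub_add_cancel] at h2)
      have hb2 : b ∉ (K ∙ (b' - b) : Submodule K V) := fun h => by
        obtain ⟨k, hk⟩ := Submodule.mem_span_singleton.1 h
        have hk0 : k ≠ 0 := by rintro rfl; rw [zero_smul] at hk; exact hb hk.symm
        exact hne (Submodule.mem_span_singleton.2 ⟨k⁻¹,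
          (congrArg (k⁻¹ • ·) hk).symm.trans (inv_smul_smul₀ hk0 _)⟩)
      obtain ⟨χ, h1, h2⟩ := exists_functional hb2
      obtain ⟨e, he, hex⟩ := has_root (F := F) hM h1
      have hmap : (line F K b).map e.toLinearMap = line F K b' := by
        have key : ∀ l : K, e (l • b) = l • b' := fun l => by
          rw [hex]; simp [h2, smul_sub]
        apply le_antisymm
        · rintro _ ⟨w, hw, rfl⟩
          obtain ⟨l, rfl⟩ := mem_line.1 hw
          exact mem_line.2 ⟨l, (key l).symm⟩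
        · intro w hw
          obtain ⟨l, rfl⟩ := mem_line.1 hw
          exact ⟨l • b, smul_mem_line _ _, key l⟩
      refine mem_phi_of_sl hM hf₀ hb' (phi_move hφ he hmap) (fun h0 => hφ0 ?_) φ' hφ'
      exact LinearMap.ext fun x => by simpa using LinearMap.congr_fun h0 (e x)
  rcases eq_or_ne v 0 with rfl | hv
  · exact Has.zero.congr fun x => by simp
  obtain ⟨ψf, hψf⟩ := exists_lift hf₀ f
  by_cases hker : ψf v = 0
  · exact ((hline v hv f ((kills_line hf₀ hψf).2 hker)).2 v (self_mem_line v))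
  obtain ⟨w, hw, hw0⟩ : ∃ w, ψf w = 0 ∧ w ≠ 0 := by
    have h1 := LinearMap.finrank_range_add_finrank_ker ψf
    have h2 : finrank K (LinearMap.range ψf) ≤ 1 := (Submodule.finrank_le _).trans (finrank_self K).le
    have h3 : 0 < finrank K (LinearMap.ker ψf) := by omega
    obtain ⟨⟨w, hw⟩, hne⟩ := finrank_pos_iff_exists_ne_zero.1 h3
    exact ⟨w, hw, fun h => hne (Subtype.ext h)⟩
  have hwv : w ∉ (K ∙ v : Submodule K V) := fun h => by
    obtain ⟨k, rfl⟩ := Submodule.mem_span_singleton.1 h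
    rw [map_smul, smul_eq_mul, mul_eq_zero] at hw
    rcases hw with rfl | hw
    · simp at hw0
    · exact hker hw
  obtain ⟨χ, h1, h2⟩ := exists_functional hwv
  let φ₁ : V →ₗ[F] F := f₀ ∘ₗ χ.restrictScalars F
  have hφ₁ : ∀ x, φ₁ x = f₀ (χ x) := fun x => rfl
  have hA := (hline v hv φ₁ ((kills_line hf₀ hφ₁).2 h1)).2 v (self_mem_line v)
  have hB := (hline w hw0 f ((kills_line hf₀ hψf).2 hw)).2 w (self_mem_line w)
  have hφv : φ₁ v = 0 := by rw [hφ₁, h1, map_zero]
  have hfw : f w = 0 := by rw [hψf, hw, map_zero]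
  refine (hA.comm hB (fun x => by simp [hφv]) (fun x => by simp [hfw]) fun x => by simp [hf]).congr fun x => ?_
  simp [hφ₁, h2, hf₀1]

end CfsgLib.Classical.FieldExtMax
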